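/-
The Smith normal forms of the Cartan matrices, and the orders of the tori.
-/
import Cfsg.Agent.Lib.Chev.TorusCard
import Cfsg.Agent.Lib.Chev.AllL

set_option autoImplicit false

namespace CfsgLib.Chev

open Cfsg.Lie

/-- An integer matrix from a list of rows. -/
def matL (L : List (List ℤ)) (n : ℕ) : Matrix (Fin n) (Fin n) ℤ := fun i j => (L.getD i []).getD j 0

section G2

def PG2 : Matrix (Fin chevG2.rank) (Fin chevG2.rank) ℤ := matL [[0, -1], [1, 2]] _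
def PiG2 : Matrix (Fin chevG2.rank) (Fin chevG2.rank) ℤ := matL [[2, 1], [-1, 0]] _
def QG2 : Matrix (Fin chevG2.rank) (Fin chevG2.rank) ℤ := matL [[1, 2], [0, 1]] _
def QiG2 : Matrix (Fin chevG2.rank) (Fin chevG2.rank) ℤ := matL [[1, -2], [0, 1]] _
def fG2 : Fin chevG2.rank → ℕ := fun i => ([1, 1] : List ℕ).getD i 0

set_option backward.isDefEq.respectTransparency false in
theorem smithChkG2 : (∀ i j, (PiG2 * PG2) i j = (1 : Matrix (Fin chevG2.rank) (Fin chevG2.rank) ℤ) i j) ∧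
    (∀ i j, (PG2 * PiG2) i j = (1 : Matrix (Fin chevG2.rank) (Fin chevG2.rank) ℤ) i j) ∧
    (∀ i j, (QG2 * QiG2) i j = (1 : Matrix (Fin chevG2.rank) (Fin chevG2.rank) ℤ) i j) ∧
    (∀ i j, (PG2 * (Matrix.of fun i j : Fin chevG2.rank => chevG2.cartan i (chevG2.simple j)) * QG2) i j =
      (Matrix.diagonal fun m => (fG2 m : ℤ)) i j) := by
  decide +kernel

theorem TG2.card_torus {F : Type*} [Field F] [Finite F] :
    Nat.card ↥(chevG2.diagonalSubgroup F) * ∏ m, (Nat.card Fˣ).gcd (fG2 m) = (Nat.card Fˣ) ^ chevG2.rank :=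
  TG2.extra.card_torus TG2.good (Matrix.ext smithChkG2.1) (Matrix.ext smithChkG2.2.1) (Matrix.ext smithChkG2.2.2.1)
    (Matrix.ext smithChkG2.2.2.2)

end G2

section B2

def PB2 : Matrix (Fin chevB2.rank) (Fin chevB2.rank) ℤ := matL [[0, -1], [1, 2]] _
def PiB2 : Matrix (Fin chevB2.rank) (Fin chevB2.rank) ℤ := matL [[2, 1], [-1, 0]] _
def QB2 : Matrix (Fin chevB2.rank) (Fin chevB2.rank) ℤ := matL [[1, 2], [0, 1]] _
def QiB2 : Matrix (Fin chevB2.rank) (Fin chevB2.rank) ℤ := matL [[1, -2], [0, 1]] _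
def fB2 : Fin chevB2.rank → ℕ := fun i => ([1, 2] : List ℕ).getD i 0

set_option backward.isDefEq.respectTransparency false in
theorem smithChkB2 : (∀ i j, (PiB2 * PB2) i j = (1 : Matrix (Fin chevB2.rank) (Fin chevB2.rank) ℤ) i j) ∧
    (∀ i j, (PB2 * PiB2) i j = (1 : Matrix (Fin chevB2.rank) (Fin chevB2.rank) ℤ) i j) ∧
    (∀ i j, (QB2 * QiB2) i j = (1 : Matrix (Fin chevB2.rank) (Fin chevB2.rank) ℤ) i j) ∧
    (∀ i j, (PB2 * (Matrix.of fun i j : Fin chevB2.rank => chevB2.cartan i (chevB2.simple j)) * QB2) i j =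
      (Matrix.diagonal fun m => (fB2 m : ℤ)) i j) := by
  decide +kernel

theorem TB2.card_torus {F : Type*} [Field F] [Finite F] :
    Nat.card ↥(chevB2.diagonalSubgroup F) * ∏ m, (Nat.card Fˣ).gcd (fB2 m) = (Nat.card Fˣ) ^ chevB2.rank :=
  TB2.extra.card_torus TB2.good (Matrix.ext smithChkB2.1) (Matrix.ext smithChkB2.2.1) (Matrix.ext smithChkB2.2.2.1)
    (Matrix.ext smithChkB2.2.2.2)

end B2

section D4

def PD4 : Matrix (Fin chevD4.rank) (Fin chevD4.rank) ℤ := matL [[-1, 0, 0, 0], [-2, -1, 0, 0], [-3, -2, -1, 0], [2, 2, 1, 1]] _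
def PiD4 : Matrix (Fin chevD4.rank) (Fin chevD4.rank) ℤ := matL [[-1, 0, 0, 0], [2, -1, 0, 0], [-1, 2, -1, 0], [-1, 0, 1, 1]] _
def QD4 : Matrix (Fin chevD4.rank) (Fin chevD4.rank) ℤ := matL [[0, 0, 0, 1], [1, 0, 0, 2], [0, 1, -1, 1], [0, 0, 1, 2]] _
def QiD4 : Matrix (Fin chevD4.rank) (Fin chevD4.rank) ℤ := matL [[-2, 1, 0, 0], [-3, 0, 1, 1], [-2, 0, 0, 1], [1, 0, 0, 0]] _
def fD4 : Fin chevD4.rank → ℕ := fun i => ([1, 1, 2, 2] : List ℕ).getD i 0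

set_option backward.isDefEq.respectTransparency false in
theorem smithChkD4 : (∀ i j, (PiD4 * PD4) i j = (1 : Matrix (Fin chevD4.rank) (Fin chevD4.rank) ℤ) i j) ∧
    (∀ i j, (PD4 * PiD4) i j = (1 : Matrix (Fin chevD4.rank) (Fin chevD4.rank) ℤ) i j) ∧
    (∀ i j, (QD4 * QiD4) i j = (1 : Matrix (Fin chevD4.rank) (Fin chevD4.rank) ℤ) i j) ∧
    (∀ i j, (PD4 * (Matrix.of fun i j : Fin chevD4.rank => chevD4.cartan i (chevD4.simple j)) * QD4) i j =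
      (Matrix.diagonal fun m => (fD4 m : ℤ)) i j) := by
  decide +kernel

theorem TD4.card_torus {F : Type*} [Field F] [Finite F] :
    Nat.card ↥(chevD4.diagonalSubgroup F) * ∏ m, (Nat.card Fˣ).gcd (fD4 m) = (Nat.card Fˣ) ^ chevD4.rank :=
  TD4.extra.card_torus TD4.good (Matrix.ext smithChkD4.1) (Matrix.ext smithChkD4.2.1) (Matrix.ext smithChkD4.2.2.1)
    (Matrix.ext smithChkD4.2.2.2)

end D4

section F4

def PF4 : Matrix (Fin chevF4.rank) (Fin chevF4.rank) ℤ := matL [[-1, 0, 0, 0], [1, 0, -1, 0], [-2, -1, 0, 0], [-2, -2, -2, -1]] _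
def PiF4 : Matrix (Fin chevF4.rank) (Fin chevF4.rank) ℤ := matL [[-1, 0, 0, 0], [2, 0, -1, 0], [-1, -1, 0, 0], [0, 2, 2, -1]] _
def QF4 : Matrix (Fin chevF4.rank) (Fin chevF4.rank) ℤ := matL [[0, 0, 1, -2], [1, 0, 2, -4], [0, 0, 2, -3], [0, 1, 2, -2]] _
def QiF4 : Matrix (Fin chevF4.rank) (Fin chevF4.rank) ℤ := matL [[-2, 1, 0, 0], [2, 0, -2, 1], [-3, 0, 2, 0], [-2, 0, 1, 0]] _
def fF4 : Fin chevF4.rank → ℕ := fun i => ([1, 1, 1, 1] : List ℕ).getD i 0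

set_option backward.isDefEq.respectTransparency false in
theorem smithChkF4 : (∀ i j, (PiF4 * PF4) i j = (1 : Matrix (Fin chevF4.rank) (Fin chevF4.rank) ℤ) i j) ∧
    (∀ i j, (PF4 * PiF4) i j = (1 : Matrix (Fin chevF4.rank) (Fin chevF4.rank) ℤ) i j) ∧
    (∀ i j, (QF4 * QiF4) i j = (1 : Matrix (Fin chevF4.rank) (Fin chevF4.rank) ℤ) i j) ∧
    (∀ i j, (PF4 * (Matrix.of fun i j : Fin chevF4.rank => chevF4.cartan i (chevF4.simple j)) * QF4) i j =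
      (Matrix.diagonal fun m => (fF4 m : ℤ)) i j) := by
  decide +kernel

theorem TF4.card_torus {F : Type*} [Field F] [Finite F] :
    Nat.card ↥(chevF4.diagonalSubgroup F) * ∏ m, (Nat.card Fˣ).gcd (fF4 m) = (Nat.card Fˣ) ^ chevF4.rank :=
  TF4.extra.card_torus TF4.good (Matrix.ext smithChkF4.1) (Matrix.ext smithChkF4.2.1) (Matrix.ext smithChkF4.2.2.1)
    (Matrix.ext smithChkF4.2.2.2)

end F4

section E6

def PE6 : Matrix (Fin chevE6.rank) (Fin chevE6.rank) ℤ := matL [[-1, 0, 0, 0, 0, 0], [0, -1, 0, 0, 0, 0], [1, -2, 0, -1, 0, 0], [2, -3, 0, -2, -1, 0], [-2, 1, -1, 0, 0, 0], [-5, 0, -4, -3, -2, -1]] _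
def PiE6 : Matrix (Fin chevE6.rank) (Fin chevE6.rank) ℤ := matL [[-1, 0, 0, 0, 0, 0], [0, -1, 0, 0, 0, 0], [2, -1, 0, 0, -1, 0], [-1, 2, -1, 0, 0, 0], [0, -1, 2, -1, 0, 0], [0, 0, -1, 2, 4, -1]] _
def QE6 : Matrix (Fin chevE6.rank) (Fin chevE6.rank) ℤ := matL [[0, 0, 0, 0, 1, -2], [0, 0, 0, 0, 2, -3], [1, 0, 0, 0, 2, -4], [0, 1, 0, 0, 4, -6], [0, 0, 1, 0, 4, -5], [0, 0, 0, 1, 4, -4]] _
def QiE6 : Matrix (Fin chevE6.rank) (Fin chevE6.rank) ℤ := matL [[-2, 0, 1, 0, 0, 0], [0, -2, 0, 1, 0, 0], [2, -3, 0, 0, 1, 0], [4, -4, 0, 0, 0, 1], [-3, 2, 0, 0, 0, 0], [-2, 1, 0, 0, 0, 0]] _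
def fE6 : Fin chevE6.rank → ℕ := fun i => ([1, 1, 1, 1, 1, 3] : List ℕ).getD i 0

set_option backward.isDefEq.respectTransparency false in
theorem smithChkE6 : (∀ i j, (PiE6 * PE6) i j = (1 : Matrix (Fin chevE6.rank) (Fin chevE6.rank) ℤ) i j) ∧
    (∀ i j, (PE6 * PiE6) i j = (1 : Matrix (Fin chevE6.rank) (Fin chevE6.rank) ℤ) i j) ∧
    (∀ i j, (QE6 * QiE6) i j = (1 : Matrix (Fin chevE6.rank) (Fin chevE6.rank) ℤ) i j) ∧
    (∀ i j, (PE6 * (Matrix.of fun i j : Fin chevE6.rank => chevE6.cartan i (chevE6.simple j)) * QE6) i j =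
      (Matrix.diagonal fun m => (fE6 m : ℤ)) i j) := by
  decide +kernel

theorem TE6.card_torus {F : Type*} [Field F] [Finite F] :
    Nat.card ↥(chevE6.diagonalSubgroup F) * ∏ m, (Nat.card Fˣ).gcd (fE6 m) = (Nat.card Fˣ) ^ chevE6.rank :=
  TE6.extra.card_torus TE6.good (Matrix.ext smithChkE6.1) (Matrix.ext smithChkE6.2.1) (Matrix.ext smithChkE6.2.2.1)
    (Matrix.ext smithChkE6.2.2.2)

end E6

section E7

def PE7 : Matrix (Fin chevE7.rank) (Fin chevE7.rank) ℤ := matL [[-1, 0, 0, 0, 0, 0, 0], [0, -1, 0, 0, 0, 0, 0], [1, -2, 0, -1, 0, 0, 0], [2, -3, 0, -2, -1, 0, 0], [3, -4, 0, -3, -2, -1, 0], [-2, 1, -1, 0, 0, 0, 0], [-4, -1, -4, -4, -3, -2, -1]] _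
def PiE7 : Matrix (Fin chevE7.rank) (Fin chevE7.rank) ℤ := matL [[-1, 0, 0, 0, 0, 0, 0], [0, -1, 0, 0, 0, 0, 0], [2, -1, 0, 0, 0, -1, 0], [-1, 2, -1, 0, 0, 0, 0], [0, -1, 2, -1, 0, 0, 0], [0, 0, -1, 2, -1, 0, 0], [0, 0, 0, -1, 2, 4, -1]] _
def QE7 : Matrix (Fin chevE7.rank) (Fin chevE7.rank) ℤ := matL [[0, 0, 0, 0, 0, 1, -2], [0, 0, 0, 0, 0, 2, -3], [1, 0, 0, 0, 0, 2, -4], [0, 1, 0, 0, 0, 4, -6], [0, 0, 1, 0, 0, 4, -5], [0, 0, 0, 1, 0, 4, -4], [0, 0, 0, 0, 1, 4, -3]] _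
def QiE7 : Matrix (Fin chevE7.rank) (Fin chevE7.rank) ℤ := matL [[-2, 0, 1, 0, 0, 0, 0], [0, -2, 0, 1, 0, 0, 0], [2, -3, 0, 0, 1, 0, 0], [4, -4, 0, 0, 0, 1, 0], [6, -5, 0, 0, 0, 0, 1], [-3, 2, 0, 0, 0, 0, 0], [-2, 1, 0, 0, 0, 0, 0]] _
def fE7 : Fin chevE7.rank → ℕ := fun i => ([1, 1, 1, 1, 1, 1, 2] : List ℕ).getD i 0

set_option backward.isDefEq.respectTransparency false in
theorem smithChkE7 : (∀ i j, (PiE7 * PE7) i j = (1 : Matrix (Fin chevE7.rank) (Fin chevE7.rank) ℤ) i j) ∧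
    (∀ i j, (PE7 * PiE7) i j = (1 : Matrix (Fin chevE7.rank) (Fin chevE7.rank) ℤ) i j) ∧
    (∀ i j, (QE7 * QiE7) i j = (1 : Matrix (Fin chevE7.rank) (Fin chevE7.rank) ℤ) i j) ∧
    (∀ i j, (PE7 * (Matrix.of fun i j : Fin chevE7.rank => chevE7.cartan i (chevE7.simple j)) * QE7) i j =
      (Matrix.diagonal fun m => (fE7 m : ℤ)) i j) := by
  decide +kernel

theorem TE7.card_torus {F : Type*} [Field F] [Finite F] :
    Nat.card ↥(chevE7.diagonalSubgroup F) * ∏ m, (Nat.card Fˣ).gcd (fE7 m) = (Nat.card Fˣ) ^ chevE7.rank :=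
  TE7.extra.card_torus TE7.good (Matrix.ext smithChkE7.1) (Matrix.ext smithChkE7.2.1) (Matrix.ext smithChkE7.2.2.1)
    (Matrix.ext smithChkE7.2.2.2)

end E7

section E8

def PE8 : Matrix (Fin chevE8.rank) (Fin chevE8.rank) ℤ := matL [[-1, 0, 0, 0, 0, 0, 0, 0], [0, -1, 0, 0, 0, 0, 0, 0], [1, -2, 0, -1, 0, 0, 0, 0], [2, -3, 0, -2, -1, 0, 0, 0], [3, -4, 0, -3, -2, -1, 0, 0], [4, -5, 0, -4, -3, -2, -1, 0], [-2, 1, -1, 0, 0, 0, 0, 0], [-3, -2, -4, -5, -4, -3, -2, -1]] _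
def PiE8 : Matrix (Fin chevE8.rank) (Fin chevE8.rank) ℤ := matL [[-1, 0, 0, 0, 0, 0, 0, 0], [0, -1, 0, 0, 0, 0, 0, 0], [2, -1, 0, 0, 0, 0, -1, 0], [-1, 2, -1, 0, 0, 0, 0, 0], [0, -1, 2, -1, 0, 0, 0, 0], [0, 0, -1, 2, -1, 0, 0, 0], [0, 0, 0, -1, 2, -1, 0, 0], [0, 0, 0, 0, -1, 2, 4, -1]] _
def QE8 : Matrix (Fin chevE8.rank) (Fin chevE8.rank) ℤ := matL [[0, 0, 0, 0, 0, 0, 1, -2], [0, 0, 0, 0, 0, 0, 2, -3], [1, 0, 0, 0, 0, 0, 2, -4], [0, 1, 0, 0, 0, 0, 4, -6], [0, 0, 1, 0, 0, 0, 4, -5], [0, 0, 0, 1, 0, 0, 4, -4], [0, 0, 0, 0, 1, 0, 4, -3], [0, 0, 0, 0, 0, 1, 4, -2]] _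
def QiE8 : Matrix (Fin chevE8.rank) (Fin chevE8.rank) ℤ := matL [[-2, 0, 1, 0, 0, 0, 0, 0], [0, -2, 0, 1, 0, 0, 0, 0], [2, -3, 0, 0, 1, 0, 0, 0], [4, -4, 0, 0, 0, 1, 0, 0], [6, -5, 0, 0, 0, 0, 1, 0], [8, -6, 0, 0, 0, 0, 0, 1], [-3, 2, 0, 0, 0, 0, 0, 0], [-2, 1, 0, 0, 0, 0, 0, 0]] _
def fE8 : Fin chevE8.rank → ℕ := fun i => ([1, 1, 1, 1, 1, 1, 1, 1] : List ℕ).getD i 0

set_option backward.isDefEq.respectTransparency false in
theorem smithChkE8 : (∀ i j, (PiE8 * PE8) i j = (1 : Matrix (Fin chevE8.rank) (Fin chevE8.rank) ℤ) i j) ∧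
    (∀ i j, (PE8 * PiE8) i j = (1 : Matrix (Fin chevE8.rank) (Fin chevE8.rank) ℤ) i j) ∧
    (∀ i j, (QE8 * QiE8) i j = (1 : Matrix (Fin chevE8.rank) (Fin chevE8.rank) ℤ) i j) ∧
    (∀ i j, (PE8 * (Matrix.of fun i j : Fin chevE8.rank => chevE8.cartan i (chevE8.simple j)) * QE8) i j =
      (Matrix.diagonal fun m => (fE8 m : ℤ)) i j) := by
  decide +kernel

theorem TE8.card_torus {F : Type*} [Field F] [Finite F] :
    Nat.card ↥(chevE8.diagonalSubgroup F) * ∏ m, (Nat.card Fˣ).gcd (fE8 m) = (Nat.card Fˣ) ^ chevE8.rank :=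
  TE8.extra.card_torus TE8.good (Matrix.ext smithChkE8.1) (Matrix.ext smithChkE8.2.1) (Matrix.ext smithChkE8.2.2.1)
    (Matrix.ext smithChkE8.2.2.2)

end E8

end CfsgLib.Chev
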