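/-
The length generating functions of the Weyl groups.
-/
import Cfsg.Agent.Lib.Chev.WTable
import Cfsg.Agent.Lib.Chev.AllL

set_option autoImplicit false
set_option maxHeartbeats 4000000

namespace CfsgLib.Chev

open Cfsg.Lie

def chainG2 : List (ℕ × List (List ℤ)) := [
  (0, [[1, 0], [-1, 3], [2, -3], [-2, 3], [1, -3], [-1, 0]]),
  (1, [[0, 1], [1, -1]])
]

theorem TG2.chainOK : chainChk TG2.cert chainG2 = true := by decide +kernel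

theorem TG2.polyOK : prodP (chainG2.map fun e => polyT TG2.cert e.2) = prodP ([2, 6].map repunit) := by decide +kernel

theorem TG2.poincare (q : ℕ) : TG2.good.PJ Set.univ q = ([2, 6].map fun d => ∑ k ∈ Finset.range d, q ^ k).prod :=
  TG2.extra.PJ_univ TG2.good TG2.braid TG2.chainOK TG2.polyOK (by decide +kernel) q

def chainB2 : List (ℕ × List (List ℤ)) := [
  (0, [[1, 0], [-1, 2], [1, -2], [-1, 0]]),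
  (1, [[0, 1], [1, -1]])
]

theorem TB2.chainOK : chainChk TB2.cert chainB2 = true := by decide +kernel

theorem TB2.polyOK : prodP (chainB2.map fun e => polyT TB2.cert e.2) = prodP ([2, 4].map repunit) := by decide +kernel

theorem TB2.poincare (q : ℕ) : TB2.good.PJ Set.univ q = ([2, 4].map fun d => ∑ k ∈ Finset.range d, q ^ k).prod :=
  TB2.extra.PJ_univ TB2.good TB2.braid TB2.chainOK TB2.polyOK (by decide +kernel) q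

def chainD4 : List (ℕ × List (List ℤ)) := [
  (0, [[1, 0, 0, 0], [-1, 1, 0, 0], [0, -1, 1, 1], [0, 0, -1, 1], [0, 0, 1, -1], [0, 1, -1, -1], [1, -1, 0, 0], [-1, 0, 0, 0]]),
  (2, [[0, 0, 1, 0], [0, 1, -1, 0], [1, -1, 0, 1], [1, 0, 0, -1]]),
  (1, [[0, 1, 0, 0], [1, -1, 1, 1], [1, 0, 1, -1]]),
  (3, [[0, 0, 0, 1], [0, 1, 0, -1]])
]

theorem TD4.chainOK : chainChk TD4.cert chainD4 = true := by decide +kernel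

theorem TD4.polyOK : prodP (chainD4.map fun e => polyT TD4.cert e.2) = prodP ([2, 4, 4, 6].map repunit) := by decide +kernel

theorem TD4.poincare (q : ℕ) : TD4.good.PJ Set.univ q = ([2, 4, 4, 6].map fun d => ∑ k ∈ Finset.range d, q ^ k).prod :=
  TD4.extra.PJ_univ TD4.good TD4.braid TD4.chainOK TD4.polyOK (by decide +kernel) q

def chainF4 : List (ℕ × List (List ℤ)) := [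
  (0, [[1, 0, 0, 0], [-1, 1, 0, 0], [0, -1, 2, 0], [0, 1, -2, 2], [1, -1, 0, 2], [0, 1, 0, -2], [-1, 0, 0, 2], [1, -1, 2, -2], [-1, 0, 2, -2], [1, 1, -2, 0], [-1, 2, -2, 0], [2, -1, 0, 0], [1, -2, 2, 0], [-2, 1, 0, 0], [-1, -1, 2, 0], [1, 0, -2, 2], [-1, 1, -2, 2], [1, 0, 0, -2], [0, -1, 0, 2], [-1, 1, 0, -2], [0, -1, 2, -2], [0, 1, -2, 0], [1, -1, 0, 0], [-1, 0, 0, 0]]),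
  (3, [[0, 0, 0, 1], [0, 0, 1, -1], [0, 1, -1, 0], [1, -1, 1, 0], [1, 0, -1, 1], [1, 0, 0, -1]]),
  (1, [[0, 1, 0, 0], [1, -1, 2, 0], [1, 1, -2, 2], [2, -1, 0, 2]]),
  (2, [[0, 0, 1, 0], [0, 1, -1, 1]])
]

theorem TF4.chainOK : chainChk TF4.cert chainF4 = true := by decide +kernel

theorem TF4.polyOK : prodP (chainF4.map fun e => polyT TF4.cert e.2) = prodP ([2, 6, 8, 12].map repunit) := by decide +kernel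

theorem TF4.poincare (q : ℕ) : TF4.good.PJ Set.univ q = ([2, 6, 8, 12].map fun d => ∑ k ∈ Finset.range d, q ^ k).prod :=
  TF4.extra.PJ_univ TF4.good TF4.braid TF4.chainOK TF4.polyOK (by decide +kernel) q

def chainE6 : List (ℕ × List (List ℤ)) := [
  (0, [[1, 0, 0, 0, 0, 0], [-1, 0, 1, 0, 0, 0], [0, 0, -1, 1, 0, 0], [0, 1, 0, -1, 1, 0], [0, -1, 0, 0, 1, 0], [0, 1, 0, 0, -1, 1], [0, -1, 0, 1, -1, 1], [0, 1, 0, 0, 0, -1], [0, 0, 1, -1, 0, 1], [0, -1, 0, 1, 0, -1], [1, 0, -1, 0, 0, 1], [0, 0, 1, -1, 1, -1], [-1, 0, 0, 0, 0, 1], [1, 0, -1, 0, 1, -1], [0, 0, 1, 0, -1, 0], [-1, 0, 0, 0, 1, -1], [1, 0, -1, 1, -1, 0], [-1, 0, 0, 1, -1, 0], [1, 1, 0, -1, 0, 0], [-1, 1, 1, -1, 0, 0], [1, -1, 0, 0, 0, 0], [-1, -1, 1, 0, 0, 0], [0, 1, -1,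 0, 0, 0], [0, -1, -1, 1, 0, 0], [0, 0, 0, -1, 1, 0], [0, 0, 0, 0, -1, 1], [0, 0, 0, 0, 0, -1]]),
  (5, [[0, 0, 0, 0, 0, 1], [0, 0, 0, 0, 1, -1], [0, 0, 0, 1, -1, 0], [0, 1, 1, -1, 0, 0], [0, -1, 1, 0, 0, 0], [1, 1, -1, 0, 0, 0], [1, -1, -1, 1, 0, 0], [1, 0, 0, -1, 1, 0], [1, 0, 0, 0, -1, 1], [1, 0, 0, 0, 0, -1]]),
  (1, [[0, 1, 0, 0, 0, 0], [0, -1, 0, 1, 0, 0], [0, 0, 1, -1, 1, 0], [1, 0, -1, 0, 1, 0], [0, 0, 1, 0, -1, 1], [1, 0, -1, 1, -1, 1], [1, 1, 0, -1, 0, 1], [1, -1, 0, 0, 0, 1]]),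
  (2, [[0, 0, 1, 0, 0, 0], [1, 0, -1, 1, 0, 0], [1, 1, 0, -1, 1, 0], [1, 1, 0, 0, -1, 1]]),
  (3, [[0, 0, 0, 1, 0, 0], [0, 1, 1, -1, 1, 0], [0, 1, 1, 0, -1, 1]]),
  (4, [[0, 0, 0, 0, 1, 0], [0, 0, 0, 1, -1, 1]])
]

theorem TE6.chainOK : chainChk TE6.cert chainE6 = true := by decide +kernel

theorem TE6.polyOK : prodP (chainE6.map fun e => polyT TE6.cert e.2) = prodP ([2, 5, 6, 8, 9, 12].map repunit) := by decide +kernel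

theorem TE6.poincare (q : ℕ) : TE6.good.PJ Set.univ q = ([2, 5, 6, 8, 9, 12].map fun d => ∑ k ∈ Finset.range d, q ^ k).prod :=
  TE6.extra.PJ_univ TE6.good TE6.braid TE6.chainOK TE6.polyOK (by decide +kernel) q

def chainE7 : List (ℕ × List (List ℤ)) := [
  (6, [[0, 0, 0, 0, 0, 0, 1], [0, 0, 0, 0, 0, 1, -1], [0, 0, 0, 0, 1, -1, 0], [0, 0, 0, 1, -1, 0, 0], [0, 1, 1, -1, 0, 0, 0], [0, -1, 1, 0, 0, 0, 0], [1, 1, -1, 0, 0, 0, 0], [1, -1, -1, 1, 0, 0, 0], [-1, 1, 0, 0, 0, 0, 0], [-1, -1, 0, 1, 0, 0, 0], [1, 0, 0, -1, 1, 0, 0], [-1, 0, 1, -1, 1, 0, 0], [1, 0, 0, 0, -1, 1, 0], [0, 0, -1, 0, 1, 0, 0], [-1, 0, 1, 0, -1, 1, 0], [1, 0, 0, 0, 0, -1, 1], [0, 0, -1, 1, -1, 1, 0], [-1, 0, 1, 0, 0, -1, 1], [1, 0, 0, 0, 0, 0, -1], [0, 1, 0, -1,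 0, 1, 0], [0, 0, -1, 1, 0, -1, 1], [-1, 0, 1, 0, 0, 0, -1], [0, -1, 0, 0, 0, 1, 0], [0, 1, 0, -1, 1, -1, 1], [0, 0, -1, 1, 0, 0, -1], [0, -1, 0, 0, 1, -1, 1], [0, 1, 0, 0, -1, 0, 1], [0, 1, 0, -1, 1, 0, -1], [0, -1, 0, 1, -1, 0, 1], [0, -1, 0, 0, 1, 0, -1], [0, 1, 0, 0, -1, 1, -1], [0, 0, 1, -1, 0, 0, 1], [0, -1, 0, 1, -1, 1, -1], [0, 1, 0, 0, 0, -1, 0], [1, 0, -1, 0, 0, 0, 1], [0, 0, 1, -1, 0, 1, -1], [0, -1, 0, 1, 0, -1, 0], [-1, 0, 0, 0, 0, 0, 1], [1, 0, -1, 0, 0, 1, -1], [0, 0, 1, -1, 1, -1, 0], [-1, 0, 0, 0, 0, 1, -1], [1, 0, -1, 0, 1, -1, 0], [0, 0, 1, 0, -1, 0, 0], [-1, 0, 0, 0, 1, -1, 0], [1, 0, -1, 1, -1, 0, 0], [-1, 0, 0, 1, -1, 0, 0], [1, 1, 0, -1, 0, 0, 0], [-1, 1, 1, -1, 0, 0, 0], [1, -1, 0, 0, 0, 0, 0], [-1, -1, 1,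 0, 0, 0, 0], [0, 1, -1, 0, 0, 0, 0], [0, -1, -1, 1, 0, 0, 0], [0, 0, 0, -1, 1, 0, 0], [0, 0, 0, 0, -1, 1, 0], [0, 0, 0, 0, 0, -1, 1], [0, 0, 0, 0, 0, 0, -1]]),
  (0, [[1, 0, 0, 0, 0, 0, 0], [-1, 0, 1, 0, 0, 0, 0], [0, 0, -1, 1, 0, 0, 0], [0, 1, 0, -1, 1, 0, 0], [0, -1, 0, 0, 1, 0, 0], [0, 1, 0, 0, -1, 1, 0], [0, -1, 0, 1, -1, 1, 0], [0, 1, 0, 0, 0, -1, 1], [0, 0, 1, -1, 0, 1, 0], [0, -1, 0, 1, 0, -1, 1], [1, 0, -1, 0, 0, 1, 0], [0, 0, 1, -1, 1, -1, 1], [-1, 0, 0, 0, 0, 1, 0], [1, 0, -1, 0, 1, -1, 1], [0, 0, 1, 0, -1, 0, 1], [-1, 0, 0, 0, 1, -1, 1], [1, 0, -1, 1, -1, 0, 1], [-1, 0, 0, 1, -1, 0, 1], [1, 1, 0, -1, 0, 0, 1], [-1, 1, 1, -1, 0, 0, 1], [1, -1, 0, 0, 0, 0, 1], [-1, -1, 1, 0, 0, 0, 1], [0, 1, -1, 0, 0, 0, 1], [0, -1, -1,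 1, 0, 0, 1], [0, 0, 0, -1, 1, 0, 1], [0, 0, 0, 0, -1, 1, 1], [0, 0, 0, 0, 0, -1, 2]]),
  (5, [[0, 0, 0, 0, 0, 1, 0], [0, 0, 0, 0, 1, -1, 1], [0, 0, 0, 1, -1, 0, 1], [0, 1, 1, -1, 0, 0, 1], [0, -1, 1, 0, 0, 0, 1], [1, 1, -1, 0, 0, 0, 1], [1, -1, -1, 1, 0, 0, 1], [1, 0, 0, -1, 1, 0, 1], [1, 0, 0, 0, -1, 1, 1], [1, 0, 0, 0, 0, -1, 2]]),
  (1, [[0, 1, 0, 0, 0, 0, 0], [0, -1, 0, 1, 0, 0, 0], [0, 0, 1, -1, 1, 0, 0], [1, 0, -1, 0, 1, 0, 0], [0, 0, 1, 0, -1, 1, 0], [1, 0, -1, 1, -1, 1, 0], [1, 1, 0, -1, 0, 1, 0], [1, -1, 0, 0, 0, 1, 0]]),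
  (2, [[0, 0, 1, 0, 0, 0, 0], [1, 0, -1, 1, 0, 0, 0], [1, 1, 0, -1, 1, 0, 0], [1, 1, 0, 0, -1, 1, 0]]),
  (3, [[0, 0, 0, 1, 0, 0, 0], [0, 1, 1, -1, 1, 0, 0], [0, 1, 1, 0, -1, 1, 0]]),
  (4, [[0, 0, 0, 0, 1, 0, 0], [0, 0, 0, 1, -1, 1, 0]])
]

theorem TE7.chainOK : chainChk TE7.cert chainE7 = true := by decide +kernel

theorem TE7.polyOK : prodP (chainE7.map fun e => polyT TE7.cert e.2) = prodP ([2, 6, 8, 10, 12, 14, 18].map repunit) := by decide +kernel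

theorem TE7.poincare (q : ℕ) : TE7.good.PJ Set.univ q = ([2, 6, 8, 10, 12, 14, 18].map fun d => ∑ k ∈ Finset.range d, q ^ k).prod :=
  TE7.extra.PJ_univ TE7.good TE7.braid TE7.chainOK TE7.polyOK (by decide +kernel) q

def chainE8 : List (ℕ × List (List ℤ)) := [
  (7, [[0, 0, 0, 0, 0, 0, 0, 1], [0, 0, 0, 0, 0, 0, 1, -1], [0, 0, 0, 0, 0, 1, -1, 0], [0, 0, 0, 0, 1, -1, 0, 0], [0, 0, 0, 1, -1, 0, 0, 0], [0, 1, 1, -1, 0, 0, 0, 0], [0, -1, 1, 0, 0, 0, 0, 0], [1, 1, -1, 0, 0, 0, 0, 0], [1, -1, -1, 1, 0, 0, 0, 0], [-1, 1, 0, 0, 0, 0, 0, 0], [-1, -1, 0, 1, 0, 0, 0, 0], [1, 0, 0, -1, 1, 0, 0, 0], [-1, 0, 1, -1, 1, 0, 0, 0], [1, 0, 0, 0, -1, 1, 0, 0], [0, 0, -1, 0, 1, 0, 0, 0], [-1, 0, 1, 0, -1, 1, 0, 0], [1, 0, 0, 0, 0, -1, 1, 0], [0, 0,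 -1, 1, -1, 1, 0, 0], [-1, 0, 1, 0, 0, -1, 1, 0], [1, 0, 0, 0, 0, 0, -1, 1], [0, 1, 0, -1, 0, 1, 0, 0], [0, 0, -1, 1, 0, -1, 1, 0], [-1, 0, 1, 0, 0, 0, -1, 1], [1, 0, 0, 0, 0, 0, 0, -1], [0, -1, 0, 0, 0, 1, 0, 0], [0, 1, 0, -1, 1, -1, 1, 0], [0, 0, -1, 1, 0, 0, -1, 1], [-1, 0, 1, 0, 0, 0, 0, -1], [0, -1, 0, 0, 1, -1, 1, 0], [0, 1, 0, 0, -1, 0, 1, 0], [0, 1, 0, -1, 1, 0, -1, 1], [0, 0, -1, 1, 0, 0, 0, -1], [0, -1, 0, 1, -1, 0, 1, 0], [0, -1, 0, 0, 1, 0, -1, 1], [0, 1, 0, 0, -1, 1, -1, 1], [0, 1, 0, -1, 1, 0, 0, -1], [0, 0, 1, -1, 0, 0, 1, 0], [0, -1, 0, 1, -1, 1, -1, 1], [0, -1, 0, 0, 1, 0, 0, -1], [0, 1, 0, 0, 0, -1, 0, 1], [0, 1, 0, 0, -1, 1, 0, -1], [1, 0, -1, 0, 0, 0, 1, 0], [0, 0, 1, -1, 0, 1, -1, 1], [0, -1, 0, 1, 0, -1, 0,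 1], [0, -1, 0, 1, -1, 1, 0, -1], [0, 1, 0, 0, 0, -1, 1, -1], [-1, 0, 0, 0, 0, 0, 1, 0], [1, 0, -1, 0, 0, 1, -1, 1], [0, 0, 1, -1, 1, -1, 0, 1], [0, 0, 1, -1, 0, 1, 0, -1], [0, -1, 0, 1, 0, -1, 1, -1], [0, 1, 0, 0, 0, 0, -1, 0], [-1, 0, 0, 0, 0, 1, -1, 1], [1, 0, -1, 0, 1, -1, 0, 1], [1, 0, -1, 0, 0, 1, 0, -1], [0, 0, 1, 0, -1, 0, 0, 1], [0, 0, 1, -1, 1, -1, 1, -1], [0, -1, 0, 1, 0, 0, -1, 0], [-1, 0, 0, 0, 1, -1, 0, 1], [-1, 0, 0, 0, 0, 1, 0, -1], [1, 0, -1, 1, -1, 0, 0, 1], [1, 0, -1, 0, 1, -1, 1, -1], [0, 0, 1, 0, -1, 0, 1, -1], [0, 0, 1, -1, 1, 0, -1, 0], [-1, 0, 0, 1, -1, 0, 0, 1], [-1, 0, 0, 0, 1, -1, 1, -1], [1, 1, 0, -1, 0, 0, 0, 1], [1, 0, -1, 1, -1, 0, 1, -1], [1, 0, -1, 0, 1, 0, -1, 0], [0, 0, 1, 0, -1, 1, -1, 0], [-1,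 1, 1, -1, 0, 0, 0, 1], [-1, 0, 0, 1, -1, 0, 1, -1], [-1, 0, 0, 0, 1, 0, -1, 0], [1, -1, 0, 0, 0, 0, 0, 1], [1, 1, 0, -1, 0, 0, 1, -1], [1, 0, -1, 1, -1, 1, -1, 0], [0, 0, 1, 0, 0, -1, 0, 0], [-1, -1, 1, 0, 0, 0, 0, 1], [0, 1, -1, 0, 0, 0, 0, 1], [-1, 1, 1, -1, 0, 0, 1, -1], [-1, 0, 0, 1, -1, 1, -1, 0], [1, -1, 0, 0, 0, 0, 1, -1], [1, 1, 0, -1, 0, 1, -1, 0], [1, 0, -1, 1, 0, -1, 0, 0], [0, -1, -1, 1, 0, 0, 0, 1], [-1, -1, 1, 0, 0, 0, 1, -1], [0, 1, -1, 0, 0, 0, 1, -1], [-1, 1, 1, -1, 0, 1, -1, 0], [-1, 0, 0, 1, 0, -1, 0, 0], [1, -1, 0, 0, 0, 1, -1, 0], [1, 1, 0, -1, 1, -1, 0, 0], [0, 0, 0, -1, 1, 0, 0, 1], [0, -1, -1, 1, 0, 0, 1, -1], [-1, -1, 1, 0, 0, 1, -1, 0], [0, 1, -1, 0, 0, 1, -1, 0], [-1, 1, 1, -1, 1, -1, 0, 0], [1, -1, 0,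 0, 1, -1, 0, 0], [1, 1, 0, 0, -1, 0, 0, 0], [0, 0, 0, 0, -1, 1, 0, 1], [0, 0, 0, -1, 1, 0, 1, -1], [0, -1, -1, 1, 0, 1, -1, 0], [-1, -1, 1, 0, 1, -1, 0, 0], [0, 1, -1, 0, 1, -1, 0, 0], [-1, 1, 1, 0, -1, 0, 0, 0], [1, -1, 0, 1, -1, 0, 0, 0], [0, 0, 0, 0, 0, -1, 1, 1], [0, 0, 0, 0, -1, 1, 1, -1], [0, 0, 0, -1, 1, 1, -1, 0], [0, -1, -1, 1, 1, -1, 0, 0], [-1, -1, 1, 1, -1, 0, 0, 0], [0, 1, -1, 1, -1, 0, 0, 0], [1, 0, 1, -1, 0, 0, 0, 0], [0, 0, 0, 0, 0, 0, -1, 2], [0, 0, 0, 0, 0, -1, 2, -1], [0, 0, 0, 0, -1, 2, -1, 0], [0, 0, 0, -1, 2, -1, 0, 0], [0, -1, -1, 2, -1, 0, 0, 0], [-1, 0, 2, -1, 0, 0, 0, 0], [0, 2, 0, -1, 0, 0, 0, 0], [2, 0, -1, 0, 0, 0, 0, 0], [0, 0, 0, 0, 0, 0, 1, -2], [0, 0, 0, 0, 0, 1, -2, 1], [0, 0, 0, 0, 1, -2, 1, 0],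 [0, 0, 0, 1, -2, 1, 0, 0], [0, 1, 1, -2, 1, 0, 0, 0], [1, 0, -2, 1, 0, 0, 0, 0], [0, -2, 0, 1, 0, 0, 0, 0], [-2, 0, 1, 0, 0, 0, 0, 0], [0, 0, 0, 0, 0, 1, -1, -1], [0, 0, 0, 0, 1, -1, -1, 1], [0, 0, 0, 1, -1, -1, 1, 0], [0, 1, 1, -1, -1, 1, 0, 0], [0, -1, 1, -1, 1, 0, 0, 0], [1, 1, -1, -1, 1, 0, 0, 0], [-1, 0, -1, 1, 0, 0, 0, 0], [0, 0, 0, 0, 1, -1, 0, -1], [0, 0, 0, 1, -1, 0, -1, 1], [0, 1, 1, -1, 0, -1, 1, 0], [0, -1, 1, 0, -1, 1, 0, 0], [1, 1, -1, 0, -1, 1, 0, 0], [1, -1, -1, 0, 1, 0, 0, 0], [-1, 1, 0, -1, 1, 0, 0, 0], [0, 0, 0, 1, -1, 0, 0, -1], [0, 1, 1, -1, 0, 0, -1, 1], [0, -1, 1, 0, 0, -1, 1, 0], [1, 1, -1, 0, 0, -1, 1, 0], [1, -1, -1, 1, -1, 1, 0, 0], [-1, 1, 0, 0, -1, 1, 0, 0], [-1, -1, 0, 0, 1, 0, 0, 0], [0, 1, 1, -1,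 0, 0, 0, -1], [0, -1, 1, 0, 0, 0, -1, 1], [1, 1, -1, 0, 0, 0, -1, 1], [1, -1, -1, 1, 0, -1, 1, 0], [-1, 1, 0, 0, 0, -1, 1, 0], [-1, -1, 0, 1, -1, 1, 0, 0], [1, 0, 0, -1, 0, 1, 0, 0], [0, -1, 1, 0, 0, 0, 0, -1], [1, 1, -1, 0, 0, 0, 0, -1], [1, -1, -1, 1, 0, 0, -1, 1], [-1, 1, 0, 0, 0, 0, -1, 1], [-1, -1, 0, 1, 0, -1, 1, 0], [1, 0, 0, -1, 1, -1, 1, 0], [-1, 0, 1, -1, 0, 1, 0, 0], [1, -1, -1, 1, 0, 0, 0, -1], [-1, 1, 0, 0, 0, 0, 0, -1], [-1, -1, 0, 1, 0, 0, -1, 1], [1, 0, 0, -1, 1, 0, -1, 1], [-1, 0, 1, -1, 1, -1, 1, 0], [1, 0, 0, 0, -1, 0, 1, 0], [0, 0, -1, 0, 0, 1, 0, 0], [-1, -1, 0, 1, 0, 0, 0, -1], [1, 0, 0, -1, 1, 0, 0, -1], [-1, 0, 1, -1, 1, 0, -1, 1], [1, 0, 0, 0, -1, 1, -1, 1], [0, 0, -1, 0, 1, -1, 1, 0], [-1, 0, 1, 0, -1,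 0, 1, 0], [-1, 0, 1, -1, 1, 0, 0, -1], [1, 0, 0, 0, -1, 1, 0, -1], [0, 0, -1, 0, 1, 0, -1, 1], [-1, 0, 1, 0, -1, 1, -1, 1], [1, 0, 0, 0, 0, -1, 0, 1], [0, 0, -1, 1, -1, 0, 1, 0], [0, 0, -1, 0, 1, 0, 0, -1], [-1, 0, 1, 0, -1, 1, 0, -1], [1, 0, 0, 0, 0, -1, 1, -1], [0, 0, -1, 1, -1, 1, -1, 1], [-1, 0, 1, 0, 0, -1, 0, 1], [0, 1, 0, -1, 0, 0, 1, 0], [0, 0, -1, 1, -1, 1, 0, -1], [-1, 0, 1, 0, 0, -1, 1, -1], [1, 0, 0, 0, 0, 0, -1, 0], [0, 1, 0, -1, 0, 1, -1, 1], [0, 0, -1, 1, 0, -1, 0, 1], [0, -1, 0, 0, 0, 0, 1, 0], [0, 1, 0, -1, 0, 1, 0, -1], [0, 0, -1, 1, 0, -1, 1, -1], [-1, 0, 1, 0, 0, 0, -1, 0], [0, -1, 0, 0, 0, 1, -1, 1], [0, 1, 0, -1, 1, -1, 0, 1], [0, -1, 0, 0, 0, 1, 0, -1], [0, 1, 0, -1, 1, -1, 1, -1], [0, 0, -1, 1, 0, 0, -1,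 0], [0, -1, 0, 0, 1, -1, 0, 1], [0, 1, 0, 0, -1, 0, 0, 1], [0, -1, 0, 0, 1, -1, 1, -1], [0, 1, 0, 0, -1, 0, 1, -1], [0, 1, 0, -1, 1, 0, -1, 0], [0, -1, 0, 1, -1, 0, 0, 1], [0, -1, 0, 1, -1, 0, 1, -1], [0, -1, 0, 0, 1, 0, -1, 0], [0, 1, 0, 0, -1, 1, -1, 0], [0, 0, 1, -1, 0, 0, 0, 1], [0, 0, 1, -1, 0, 0, 1, -1], [0, -1, 0, 1, -1, 1, -1, 0], [0, 1, 0, 0, 0, -1, 0, 0], [1, 0, -1, 0, 0, 0, 0, 1], [1, 0, -1, 0, 0, 0, 1, -1], [0, 0, 1, -1, 0, 1, -1, 0], [0, -1, 0, 1, 0, -1, 0, 0], [-1, 0, 0, 0, 0, 0, 0, 1], [-1, 0, 0, 0, 0, 0, 1, -1], [1, 0, -1, 0, 0, 1, -1, 0], [0, 0, 1, -1, 1, -1, 0, 0], [-1, 0, 0, 0, 0, 1, -1, 0], [1, 0, -1, 0, 1, -1, 0, 0], [0, 0, 1, 0, -1, 0, 0, 0], [-1, 0, 0, 0, 1, -1, 0, 0], [1, 0, -1, 1, -1, 0, 0, 0], [-1, 0, 0,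 1, -1, 0, 0, 0], [1, 1, 0, -1, 0, 0, 0, 0], [-1, 1, 1, -1, 0, 0, 0, 0], [1, -1, 0, 0, 0, 0, 0, 0], [-1, -1, 1, 0, 0, 0, 0, 0], [0, 1, -1, 0, 0, 0, 0, 0], [0, -1, -1, 1, 0, 0, 0, 0], [0, 0, 0, -1, 1, 0, 0, 0], [0, 0, 0, 0, -1, 1, 0, 0], [0, 0, 0, 0, 0, -1, 1, 0], [0, 0, 0, 0, 0, 0, -1, 1], [0, 0, 0, 0, 0, 0, 0, -1]]),
  (6, [[0, 0, 0, 0, 0, 0, 1, 0], [0, 0, 0, 0, 0, 1, -1, 1], [0, 0, 0, 0, 1, -1, 0, 1], [0, 0, 0, 1, -1, 0, 0, 1], [0, 1, 1, -1, 0, 0, 0, 1], [0, -1, 1, 0, 0, 0, 0, 1], [1, 1, -1, 0, 0, 0, 0, 1], [1, -1, -1, 1, 0, 0, 0, 1], [-1, 1, 0, 0, 0, 0, 0, 1], [-1, -1, 0, 1, 0, 0, 0, 1], [1, 0, 0, -1, 1, 0, 0, 1], [-1, 0, 1, -1, 1, 0, 0, 1], [1, 0, 0, 0, -1, 1, 0, 1], [0, 0, -1, 0, 1, 0, 0, 1], [-1, 0, 1, 0, -1, 1, 0, 1], [1,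 0, 0, 0, 0, -1, 1, 1], [0, 0, -1, 1, -1, 1, 0, 1], [-1, 0, 1, 0, 0, -1, 1, 1], [1, 0, 0, 0, 0, 0, -1, 2], [0, 1, 0, -1, 0, 1, 0, 1], [0, 0, -1, 1, 0, -1, 1, 1], [-1, 0, 1, 0, 0, 0, -1, 2], [0, -1, 0, 0, 0, 1, 0, 1], [0, 1, 0, -1, 1, -1, 1, 1], [0, 0, -1, 1, 0, 0, -1, 2], [0, -1, 0, 0, 1, -1, 1, 1], [0, 1, 0, 0, -1, 0, 1, 1], [0, 1, 0, -1, 1, 0, -1, 2], [0, -1, 0, 1, -1, 0, 1, 1], [0, -1, 0, 0, 1, 0, -1, 2], [0, 1, 0, 0, -1, 1, -1, 2], [0, 0, 1, -1, 0, 0, 1, 1], [0, -1, 0, 1, -1, 1, -1, 2], [0, 1, 0, 0, 0, -1, 0, 2], [1, 0, -1, 0, 0, 0, 1, 1], [0, 0, 1, -1, 0, 1, -1, 2], [0, -1, 0, 1, 0, -1, 0, 2], [-1, 0, 0, 0, 0, 0, 1, 1], [1, 0, -1, 0, 0, 1, -1, 2], [0, 0, 1, -1, 1, -1, 0, 2], [-1, 0, 0, 0, 0, 1, -1, 2], [1, 0, -1, 0, 1, -1, 0,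 2], [0, 0, 1, 0, -1, 0, 0, 2], [-1, 0, 0, 0, 1, -1, 0, 2], [1, 0, -1, 1, -1, 0, 0, 2], [-1, 0, 0, 1, -1, 0, 0, 2], [1, 1, 0, -1, 0, 0, 0, 2], [-1, 1, 1, -1, 0, 0, 0, 2], [1, -1, 0, 0, 0, 0, 0, 2], [-1, -1, 1, 0, 0, 0, 0, 2], [0, 1, -1, 0, 0, 0, 0, 2], [0, -1, -1, 1, 0, 0, 0, 2], [0, 0, 0, -1, 1, 0, 0, 2], [0, 0, 0, 0, -1, 1, 0, 2], [0, 0, 0, 0, 0, -1, 1, 2], [0, 0, 0, 0, 0, 0, -1, 3]]),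
  (0, [[1, 0, 0, 0, 0, 0, 0, 0], [-1, 0, 1, 0, 0, 0, 0, 0], [0, 0, -1, 1, 0, 0, 0, 0], [0, 1, 0, -1, 1, 0, 0, 0], [0, -1, 0, 0, 1, 0, 0, 0], [0, 1, 0, 0, -1, 1, 0, 0], [0, -1, 0, 1, -1, 1, 0, 0], [0, 1, 0, 0, 0, -1, 1, 0], [0, 0, 1, -1, 0, 1, 0, 0], [0, -1, 0, 1, 0, -1, 1, 0], [1, 0, -1, 0, 0, 1, 0, 0], [0, 0, 1, -1, 1, -1, 1, 0], [-1, 0, 0, 0, 0, 1, 0, 0], [1, 0, -1, 0, 1, -1, 1, 0], [0, 0, 1, 0, -1, 0, 1, 0], [-1, 0, 0, 0, 1, -1, 1, 0], [1, 0, -1, 1, -1, 0, 1, 0], [-1, 0, 0, 1, -1, 0, 1, 0], [1, 1, 0, -1, 0, 0, 1, 0], [-1, 1, 1, -1, 0, 0, 1, 0], [1, -1, 0, 0, 0, 0, 1, 0], [-1, -1, 1, 0, 0, 0, 1, 0], [0, 1, -1, 0, 0, 0, 1, 0], [0, -1, -1, 1, 0, 0, 1, 0], [0, 0, 0, -1, 1, 0, 1, 0], [0, 0, 0, 0, -1, 1, 1, 0], [0, 0, 0, 0, 0, -1,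 2, 0]]),
  (5, [[0, 0, 0, 0, 0, 1, 0, 0], [0, 0, 0, 0, 1, -1, 1, 0], [0, 0, 0, 1, -1, 0, 1, 0], [0, 1, 1, -1, 0, 0, 1, 0], [0, -1, 1, 0, 0, 0, 1, 0], [1, 1, -1, 0, 0, 0, 1, 0], [1, -1, -1, 1, 0, 0, 1, 0], [1, 0, 0, -1, 1, 0, 1, 0], [1, 0, 0, 0, -1, 1, 1, 0], [1, 0, 0, 0, 0, -1, 2, 0]]),
  (1, [[0, 1, 0, 0, 0, 0, 0, 0], [0, -1, 0, 1, 0, 0, 0, 0], [0, 0, 1, -1, 1, 0, 0, 0], [1, 0, -1, 0, 1, 0, 0, 0], [0, 0, 1, 0, -1, 1, 0, 0], [1, 0, -1, 1, -1, 1, 0, 0], [1, 1, 0, -1, 0, 1, 0, 0], [1, -1, 0, 0, 0, 1, 0, 0]]),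
  (2, [[0, 0, 1, 0, 0, 0, 0, 0], [1, 0, -1, 1, 0, 0, 0, 0], [1, 1, 0, -1, 1, 0, 0, 0], [1, 1, 0, 0, -1, 1, 0, 0]]),
  (3, [[0, 0, 0, 1, 0, 0, 0, 0], [0, 1, 1, -1, 1, 0, 0, 0], [0, 1, 1, 0, -1, 1, 0, 0]]),
  (4, [[0, 0, 0, 0, 1, 0, 0, 0], [0, 0, 0, 1, -1, 1, 0, 0]])
]

theorem TE8.chainOK : chainChk TE8.cert chainE8 = true := by decide +kernel

theorem TE8.polyOK : prodP (chainE8.map fun e => polyT TE8.cert e.2) = prodP ([2, 8, 12, 14, 18, 20, 24, 30].map repunit) := by decide +kernel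

theorem TE8.poincare (q : ℕ) : TE8.good.PJ Set.univ q = ([2, 8, 12, 14, 18, 20, 24, 30].map fun d => ∑ k ∈ Finset.range d, q ^ k).prod :=
  TE8.extra.PJ_univ TE8.good TE8.braid TE8.chainOK TE8.polyOK (by decide +kernel) q

end CfsgLib.Chev
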