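/-
The orders of the Chevalley groups.
-/
import Cfsg.Agent.Lib.Chev.AllW
import Cfsg.Agent.Lib.Chev.AllT
import Cfsg.Agent.Lib.Chev.Count
import Cfsg.Agent.Lib.Chev.WeylPerm

set_option autoImplicit false

namespace CfsgLib.Chev

open Cfsg.Lie

theorem TG2.card_main {F : Type*} [Field F] [Finite F] :
    Nat.card ↥(chevG2.group F) * ∏ m, (Nat.card Fˣ).gcd (fG2 m) =
      Nat.card F ^ (chevG2.nroots / 2) * ([2, 6].map fun d => Nat.card F ^ d - 1).prod :=
  TG2.extra.card_formula TG2.good TG2.braid rfl TG2.poincare TG2.card_torus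

theorem TB2.card_main {F : Type*} [Field F] [Finite F] :
    Nat.card ↥(chevB2.group F) * ∏ m, (Nat.card Fˣ).gcd (fB2 m) =
      Nat.card F ^ (chevB2.nroots / 2) * ([2, 4].map fun d => Nat.card F ^ d - 1).prod :=
  TB2.extra.card_formula TB2.good TB2.braid rfl TB2.poincare TB2.card_torus

theorem TD4.card_main {F : Type*} [Field F] [Finite F] :
    Nat.card ↥(chevD4.group F) * ∏ m, (Nat.card Fˣ).gcd (fD4 m) =
      Nat.card F ^ (chevD4.nroots / 2) * ([2, 4, 4, 6].map fun d => Nat.card F ^ d - 1).prod :=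
  TD4.extra.card_formula TD4.good TD4.braid rfl TD4.poincare TD4.card_torus

theorem TF4.card_main {F : Type*} [Field F] [Finite F] :
    Nat.card ↥(chevF4.group F) * ∏ m, (Nat.card Fˣ).gcd (fF4 m) =
      Nat.card F ^ (chevF4.nroots / 2) * ([2, 6, 8, 12].map fun d => Nat.card F ^ d - 1).prod :=
  TF4.extra.card_formula TF4.good TF4.braid rfl TF4.poincare TF4.card_torus

theorem TE6.card_main {F : Type*} [Field F] [Finite F] :
    Nat.card ↥(chevE6.group F) * ∏ m, (Nat.card Fˣ).gcd (fE6 m) =
      Nat.card F ^ (chevE6.nroots / 2) * ([2, 5, 6, 8, 9, 12].map fun d => Nat.card F ^ d - 1).prod :=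
  TE6.extra.card_formula TE6.good TE6.braid rfl TE6.poincare TE6.card_torus

theorem TE7.card_main {F : Type*} [Field F] [Finite F] :
    Nat.card ↥(chevE7.group F) * ∏ m, (Nat.card Fˣ).gcd (fE7 m) =
      Nat.card F ^ (chevE7.nroots / 2) * ([2, 6, 8, 10, 12, 14, 18].map fun d => Nat.card F ^ d - 1).prod :=
  TE7.extra.card_formula TE7.good TE7.braid rfl TE7.poincare TE7.card_torus

theorem TE8.card_main {F : Type*} [Field F] [Finite F] :
    Nat.card ↥(chevE8.group F) * ∏ m, (Nat.card Fˣ).gcd (fE8 m) =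
      Nat.card F ^ (chevE8.nroots / 2) * ([2, 8, 12, 14, 18, 20, 24, 30].map fun d => Nat.card F ^ d - 1).prod :=
  TE8.extra.card_formula TE8.good TE8.braid rfl TE8.poincare TE8.card_torus

theorem TG2.coxOK : coxChk TG2.cert (List.range 2) 6 0 = true := by decide +kernel

theorem TB2.coxOK : coxChk TB2.cert (List.range 2) 4 0 = true := by decide +kernel

theorem TD4.coxOK : coxChk TD4.cert (List.range 4) 6 0 = true := by decide +kernel

theorem TF4.coxOK : coxChk TF4.cert (List.range 4) 12 0 = true := by decide +kernel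

theorem TE6.coxOK : coxChk TE6.cert (List.range 6) 12 0 = true := by decide +kernel

theorem TE7.coxOK : coxChk TE7.cert (List.range 7) 18 0 = true := by decide +kernel

theorem TE8.coxOK : coxChk TE8.cert (List.range 8) 30 0 = true := by decide +kernel

end CfsgLib.Chev
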