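/-
Pairs of long root subgroups.
-/
import Cfsg.Agent.Lib.Chev.CharDiag

set_option autoImplicit false

namespace CfsgLib.Chev

open Cfsg.Lie Cfsg.Lie.ChevalleyDatum CfsgLib.BN

/-- The check of a word moving a pair of roots to positive roots. -/
def longPairChk (C : Cert) (top : ℕ) (W : List (List ℕ)) : Bool :=
  Nat.blt top C.E.n && Nat.beq (C.E.neg top) 0 && allBelow C.E.n fun s => Nat.beq s top || Nat.beq s 0 ||
    ((W.getD s []).all (fun i => Nat.blt i C.E.l) && Nat.ble (C.E.n / 2) (actW C (W.getD s []) top).1 &&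
      Nat.ble (C.E.n / 2) (actW C (W.getD s []) s).1)

/-- Any two non opposite roots from the top root can be moved to positive roots. -/
structure PairT (D : ChevalleyDatum) (C : Cert) (top : ℕ) : Prop where
  lt : top < D.nroots
  neg : D.neg top = 0
  word : ∀ s < D.nroots, s ≠ top → s ≠ 0 → ∃ L : List ℕ, (∀ i ∈ L, i < D.rank) ∧ D.nroots / 2 ≤ (actW C L top).1 ∧
    D.nroots / 2 ≤ (actW C L s).1

section

variable {D : ChevalleyDatum} {C : Cert} (hG : Good D C) {F : Type*} [Field F] (hE : Extra D C)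

theorem PairT.of_check (hG : Good D C) {top : ℕ} {W : List (List ℕ)} (h : longPairChk C top W = true) : PairT D C top := by
  have hA := hG.agree
  simp only [longPairChk, Bool.and_eq_true] at h
  obtain ⟨⟨h1, h2⟩, h3⟩ := h
  have hlt : top < D.nroots := hA.hn ▸ Nat.le_of_ble_eq_true h1
  refine ⟨hlt, ?_, ?_⟩
  · have := Nat.eq_of_beq_eq_true h2
    rw [hA.hneg top hlt] at this
    exact this
  · intro s hs h4 h5
    have h6 := allBelow_spec h3 s (by rw [hA.hn]; exact hs)
    simp only [Bool.or_eq_true, Bool.and_eq_true, List.all_eq_true] at h6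
    rcases h6 with (h6 | h6) | ⟨⟨h6, h7⟩, h8⟩
    · exact absurd (Nat.eq_of_beq_eq_true h6) h4
    · exact absurd (Nat.eq_of_beq_eq_true h6) h5
    · refine ⟨W.getD s [], fun i hi => hA.hl ▸ Nat.le_of_ble_eq_true (h6 i hi), ?_, ?_⟩
      · rw [← hA.hn]
        exact Nat.le_of_ble_eq_true h7
      · rw [← hA.hn]
        exact Nat.le_of_ble_eq_true h8

include hG

/-- The image of a root subgroup under a monomial element. -/
lemma Good.map_rootSubgroup {n : GL D.Idx F} {π : Equiv.Perm (Fin D.nroots)} {d : Fin D.nroots → F} (hm : IsMono hG n π d)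
    (r : Fin D.nroots) : (D.rootSubgroup F r).map (MulAut.conj n).toMonoidHom = D.rootSubgroup F (π r) := by
  ext x
  constructor
  · rintro ⟨y, hy, rfl⟩
    obtain ⟨t, rfl⟩ := (hG.rootSubgroup_eq _ _).1 hy
    show n * hG.xG r t * n⁻¹ ∈ _
    rw [hm.conj r t]
    exact hG.mem_rootSubgroup _ _
  · intro hx
    obtain ⟨t, rfl⟩ := (hG.rootSubgroup_eq _ _).1 hx
    refine ⟨hG.xG r ((d r)⁻¹ * t), hG.mem_rootSubgroup _ _, ?_⟩
    show n * hG.xG r ((d r)⁻¹ * t) * n⁻¹ = _
    rw [hm.conj r, ← mul_assoc, mul_inv_cancel₀ (hm.d_ne r), one_mul]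

include hE

/-- The Borel subgroup normalizes the root subgroup of the last root. -/
lemma Extra.borel_map_top {top : ℕ} (htop : top + 1 = D.nroots) (hp : D.nroots / 2 ≤ top) {b : GL D.Idx F} (hb : b ∈ D.borelSubgroup F) :
    (D.rootSubgroup F top).map (MulAut.conj b).toMonoidHom = D.rootSubgroup F top := by
  have hlt : top < D.nroots := by omega
  have key : ∀ b ∈ D.borelSubgroup F, (D.rootSubgroup F top).map (MulAut.conj b).toMonoidHom ≤ D.rootSubgroup F top := by
    intro b hb
    obtain ⟨u, hu, h, hh, rfl⟩ := (mem_sup_of_le_normalizer (hE.diagonal_normalizes_unipotent hG).1).1 hb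
    rintro _ ⟨y, hy, rfl⟩
    obtain ⟨t, rfl⟩ := (hG.rootSubgroup_eq _ _).1 hy
    show u * h * hG.xG top t * (u * h)⁻¹ ∈ _
    obtain ⟨d, hd⟩ := (hG.mem_KK.1 (hG.diagonal_le_KK hh)).2
    have h1 := hd.conj ⟨top, hlt⟩ t
    simp only at h1
    have e : u * h * hG.xG top t * (u * h)⁻¹ = u * (h * hG.xG top t * h⁻¹) * u⁻¹ := by group
    rw [e, h1]
    simp only [Equiv.Perm.one_apply]
    -- commutation with the unipotent group
    set s := d ⟨top, hlt⟩ * t
    have hxk : hG.xG top s ∈ hG.Uk F top := hG.xG_mem_Uk le_rfl hlt s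
    have hc := hE.comm_Uk hG hp hxk hu
    have hbot : hG.Uk F (top + 1) = ⊥ := by
      unfold Good.Uk
      rw [Subgroup.closure_eq_bot_iff]
      rintro _ ⟨r, h3, h4, _⟩
      omega
    rw [hbot, Subgroup.mem_bot] at hc
    have e2 : u * hG.xG top s * u⁻¹ = hG.xG top s := by
      have h5 : hG.xG top s * u = u * hG.xG top s := mul_inv_eq_iff_eq_mul.1 (mul_inv_eq_one.1 hc)
      rw [← h5, mul_inv_cancel_right]
    rw [e2]
    exact hG.mem_rootSubgroup _ _
  apply le_antisymm (key b hb)
  intro x hx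
  refine ⟨b⁻¹ * x * b, ?_, by show b * (b⁻¹ * x * b) * b⁻¹ = x; group⟩
  have := key b⁻¹ (Subgroup.inv_mem _ hb) ⟨x, hx, rfl⟩
  have e : (MulAut.conj b⁻¹).toMonoidHom x = b⁻¹ * x * b := by
    show b⁻¹ * x * b⁻¹⁻¹ = _
    rw [inv_inv]
  rwa [e] at this

/-- Two long root subgroups. -/
theorem Extra.long_pair (hB : Braid D C) {top : ℕ} (htop : top + 1 = D.nroots) (hT : PairT D C top) [Fintype F] {p : ℕ} [Fact p.Prime] [CharP F p]
    {g : GL D.Idx F} (hg : g ∈ D.group F) :
    IsPGroup p ↥(D.rootSubgroup F top ⊔ (D.rootSubgroup F top).map (MulAut.conj g).toMonoidHom) ∨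
    ∃ h ∈ D.group F, (D.rootSubgroup F top ⊔ (D.rootSubgroup F top).map (MulAut.conj g).toMonoidHom).map (MulAut.conj h).toMonoidHom =
      D.rootSubgroup F top ⊔ D.rootSubgroup F 0 := by
  classical
  have hlt := hT.lt
  have hp : D.nroots / 2 ≤ top := by
    have := hE.even
    have := hE.nroots_pos
    omega
  obtain ⟨b0, hb0, n0, hn0, b1, hb1, rfl⟩ := hE.bruhat hG hB hg
  obtain ⟨π, d, hm⟩ := hG.mono_of_mem_N hE hn0
  have hmulconj : ∀ (K : Subgroup (GL D.Idx F)) (a c : GL D.Idx F), K.map (MulAut.conj (a * c)).toMonoidHom =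
      (K.map (MulAut.conj c).toMonoidHom).map (MulAut.conj a).toMonoidHom := by
    intro K a c
    rw [Subgroup.map_map]
    congr 1
    ext x
    simp [MulAut.conj_apply, mul_assoc]
  set s : Fin D.nroots := π ⟨top, hlt⟩ with hs
  have h1 : (D.rootSubgroup F top).map (MulAut.conj (b0 * n0 * b1)).toMonoidHom =
      (D.rootSubgroup F s).map (MulAut.conj b0).toMonoidHom := by
    rw [hmulconj, hE.borel_map_top hG htop hp hb1, hmulconj]
    congr 1
    exact hG.map_rootSubgroup hm ⟨top, hlt⟩
  have h2 : D.rootSubgroup F top ⊔ (D.rootSubgroup F top).map (MulAut.conj (b0 * n0 * b1)).toMonoidHom =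
      (D.rootSubgroup F top ⊔ D.rootSubgroup F s).map (MulAut.conj b0).toMonoidHom := by
    rw [h1, Subgroup.map_sup, hE.borel_map_top hG htop hp hb0]
  rw [h2]
  have hcard : Nat.card F = p ^ (FiniteField.card F p).choose.val := by
    rw [Nat.card_eq_fintype_card]
    exact (FiniteField.card F p).choose_spec.2
  have hUp : IsPGroup p ↥(D.posUnipotent F) := by
    apply IsPGroup.of_card (n := (FiniteField.card F p).choose.val * (D.nroots / 2))
    rw [hE.card_unipotent hG, hcard, pow_mul]
  by_cases hs0 : s.val = 0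
  · right
    refine ⟨b0⁻¹, Subgroup.inv_mem _ (hG.borel_le_group hb0), ?_⟩
    rw [← hmulconj, inv_mul_cancel, hs0]
    ext x
    simp [MulAut.conj_apply]
  · left
    apply IsPGroup.map
    by_cases hs1 : s.val = top
    · rw [hs1, sup_idem]
      have : D.rootSubgroup F top ≤ D.posUnipotent F := by
        intro x hx
        obtain ⟨t, rfl⟩ := (hG.rootSubgroup_eq _ _).1 hx
        exact hG.posUnipotent_mem ((hE.posIff _ hlt).2 hp) t
      exact hUp.to_le this
    · obtain ⟨L, hL, h3, h4⟩ := hT.word s s.2 hs1 hs0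
      have hm2 := hG.isMono_nW (F := F) hL
      have hle : (D.rootSubgroup F top ⊔ D.rootSubgroup F s).map (MulAut.conj (hG.nW F L)).toMonoidHom ≤ D.posUnipotent F := by
        rw [Subgroup.map_sup]
        have e1 := hG.map_rootSubgroup hm2 ⟨top, hlt⟩
        have e2 := hG.map_rootSubgroup hm2 s
        simp only at e1
        rw [e1, e2]
        apply sup_le
        · intro x hx
          obtain ⟨t, rfl⟩ := (hG.rootSubgroup_eq _ _).1 hx
          apply hG.posUnipotent_mem ((hE.posIff _ (Fin.is_lt _)).2 _) t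
          rw [hG.permW_val hL]
          exact h3
        · intro x hx
          obtain ⟨t, rfl⟩ := (hG.rootSubgroup_eq _ _).1 hx
          apply hG.posUnipotent_mem ((hE.posIff _ (Fin.is_lt _)).2 _) t
          rw [hG.permW_val hL]
          exact h4
      have h5 := (hUp.to_le hle).map (MulAut.conj (hG.nW F L)⁻¹).toMonoidHom
      rw [← hmulconj, inv_mul_cancel] at h5
      have h6 : ∀ K : Subgroup (GL D.Idx F), K.map (MulAut.conj (1 : GL D.Idx F)).toMonoidHom = K := by
        intro K
        ext x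
        simp [MulAut.conj_apply]
      rwa [h6] at h5

end

end CfsgLib.Chev
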