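/-
Graph automorphisms given by signed permutations of the basis.
-/
import Cfsg.Agent.Lib.Chev.CharDiag

set_option autoImplicit false

namespace CfsgLib.Chev

open Cfsg.Lie Cfsg.Lie.ChevalleyDatum CfsgLib.BN

/-- The check of a signed permutation. -/
def gspChk (C : Cert) (D : ChevalleyDatum) (P : SP) : Bool :=
  allBelow C.E.n (fun r =>
    Nat.blt (P.π r) C.E.n && Nat.beq (P.π (P.π r)) r &&
    (decide (P.σ r = 1) || decide (P.σ r = -1)) &&
    Nat.beq (P.π (C.E.neg r)) (C.E.neg (P.π r)) && decide (P.σ (C.E.neg r) = P.σ r) &&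
    allBelow C.E.l (fun j' => decide (sumBelow C.E.l (fun j => P.H j' j * C.E.cor r j) = C.E.cor (P.π r) j')) &&
    allBelow C.E.l (fun j => decide (C.E.car j r = sumBelow C.E.l (fun j' => C.E.car j' (P.π r) * P.H j' j)))) &&
  allIdx (fun r row => row.toList.all fun e =>
    entBeq (C.E.ent (P.π r) (P.π e.1)) (P.mapE r e.1 0 e.2.toList)) 0 D.chain.toList

section
variable {D : ChevalleyDatum} {C : Cert}

theorem gsp_good (hA : Agree D C.E) {P : SP} (hc : gspChk C D P = true) : SP.Good D P := by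
  simp only [gspChk, Bool.and_eq_true] at hc
  obtain ⟨hc1, hc2⟩ := hc
  have hn := hA.hn
  have hl := hA.hl
  have key : ∀ r < D.nroots, _ := fun r (hr : r < D.nroots) => by
    have := allBelow_spec hc1 r (by rw [hn]; exact hr)
    simp only [Bool.and_eq_true] at this
    exact this
  have hlt : ∀ r < D.nroots, P.π r < D.nroots := by
    intro r hr
    have := (key r hr).1.1.1.1.1.1
    rw [← hn]
    simpa [Nat.blt_eq] using this
  have hinv : ∀ r < D.nroots, P.π (P.π r) = r := fun r hr =>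
    Nat.eq_of_beq_eq_true (key r hr).1.1.1.1.1.2
  have hrow : ∀ r < D.nroots, ∀ e ∈ (D.chain.getD r #[]).toList,
      C.E.ent (P.π r) (P.π e.1) = P.mapE r e.1 0 e.2.toList := by
    intro r hr e he
    have hr' : r < D.chain.toList.length := by rw [hA.hlen]; exact hr
    rw [getD_eq_toList _ _ _ hr'] at he
    have h3 := allIdx_spec0 hc2 r hr'
    exact entBeq_eq (List.all_eq_true.1 h3 e he)
  refine ⟨hlt, hinv, ?_, ?_, ?_, ?_, ?_, ?_⟩
  · intro r hr
    have := (key r hr).1.1.1.1.2
    simpa using this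
  · intro r hr
    have := (key r hr).1.1.1.2
    rw [neg_eq hA hr, neg_eq hA (hlt r hr)]
    exact Nat.eq_of_beq_eq_true this
  · intro r hr
    have := (key r hr).1.1.2
    rw [neg_eq hA hr]
    simpa using this
  · -- chain
    intro r hr s hs
    have hr1 := hlt r hr
    have hs1 := hlt s hs
    by_cases hne : D.chainEntry r s = []
    · rw [hne]
      show _ = []
      by_contra hne2
      rw [chainEntry_eq_entryOf] at hne2
      obtain ⟨e, he, he1, he2⟩ := entryOf_ne_nil hne2
      have h4 := hrow _ hr1 e he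
      rw [he1, hinv r hr, hinv s hs, hA.hent r hr s hs, hne] at h4
      apply hne2
      rw [he2]
      exact mapE_eq_nil _ _ _ _ h4.symm
    · rw [chainEntry_eq_entryOf] at hne
      obtain ⟨e, he, he1, he2⟩ := entryOf_ne_nil hne
      have h4 := hrow r hr e he
      rw [he1] at h4
      rw [chainEntry_eq_entryOf D r s, he2, ← h4]
      exact (hA.hent _ hr1 _ hs1).symm
  · -- cor
    intro r hr j'
    have h5 := allBelow_spec (key r hr).1.2 j'.val (by rw [hl]; exact j'.2)
    have h5' : sumBelow C.E.l (fun j => P.H j' j * C.E.cor r j) = C.E.cor (P.π r) j' := by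
      simpa using h5
    rw [show corOf D (P.π r) j' = C.E.cor (P.π r) j' from (hA.hcor _ (hlt r hr) _ j'.2).symm, ← h5', hl, sumBelow_eq]
    apply Finset.sum_congr rfl
    intro j _
    rw [show corOf D r j = C.E.cor r j from (hA.hcor _ hr _ j.2).symm]
  · -- car
    intro r hr j
    have h6 := allBelow_spec (key r hr).2 j.val (by rw [hl]; exact j.2)
    have h6' : C.E.car j r = sumBelow C.E.l (fun j' => C.E.car j' (P.π r) * P.H j' j) := by
      simpa using h6
    rw [show D.cartan j r = C.E.car j r from (hA.hcar _ j.2 _ hr).symm, h6', hl, sumBelow_eq]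
    apply Finset.sum_congr rfl
    intro j' _
    rw [show C.E.car j' (P.π r) = D.cartan j' (P.π r) from hA.hcar _ j'.2 _ (hlt r hr)]

end

section conj

variable {Γ : Type*} [Group Γ]

/-- The automorphism of a subgroup given by conjugation by an element normalising it. -/
def conjAut (G : Subgroup Γ) (u : Γ) (h1 : ∀ g ∈ G, u * g * u⁻¹ ∈ G) (h2 : ∀ g ∈ G, u⁻¹ * g * u ∈ G) : ↥G ≃* ↥G where
  toFun := fun g => ⟨u * g * u⁻¹, h1 _ g.2⟩
  invFun := fun g => ⟨u⁻¹ * g * u, h2 _ g.2⟩
  left_inv := by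
    intro g
    apply Subtype.ext
    simp only
    group
  right_inv := by
    intro g
    apply Subtype.ext
    simp only
    group
  map_mul' := by
    intro a b
    apply Subtype.ext
    simp only [Subgroup.coe_mul]
    group

end conj

section

variable {D : ChevalleyDatum} {C : Cert} (hG : Good D C) {F : Type*} [Field F] {P : SP}

/-- A signed permutation with `H² = 1` as an invertible matrix. -/
def spUnit (D : ChevalleyDatum) (P : SP) (F : Type*) [Field F] (hP : SP.Good D P)
    (hH : ∀ j' k : Fin D.rank, ∑ j : Fin D.rank, ((P.H j' j : ℤ) : F) * ((P.H j k : ℤ) : F) = if j' = k then 1 else 0) : GL D.Idx F where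
  val := SP.mat D P F
  inv := SP.mat D P F * SP.mat D P F * SP.mat D P F
  val_inv := by
    have := SP.mat_fourth hP hH
    simpa [mul_assoc] using this
  inv_val := by
    have := SP.mat_fourth hP hH
    simpa [mul_assoc] using this

include hG

/-- The conjugation by a signed permutation on the root elements. -/
lemma Good.spUnit_conj (hP : SP.Good D P)
    (hH : ∀ j' k : Fin D.rank, ∑ j : Fin D.rank, ((P.H j' j : ℤ) : F) * ((P.H j k : ℤ) : F) = if j' = k then 1 else 0) {r : ℕ}
    (hr : r < D.nroots) (a : F) :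
    spUnit D P F hP hH * hG.xG r a * (spUnit D P F hP hH)⁻¹ = hG.xG (P.π r) (((P.σ r : ℤ) : F) * a) := by
  rw [mul_inv_eq_iff_eq_mul]
  apply Units.ext
  simp only [Units.val_mul, hG.xG_val]
  exact SP.mat_mul_x hG.shp hP hr a

lemma Good.spUnit_conj' (hP : SP.Good D P)
    (hH : ∀ j' k : Fin D.rank, ∑ j : Fin D.rank, ((P.H j' j : ℤ) : F) * ((P.H j k : ℤ) : F) = if j' = k then 1 else 0) {r : ℕ}
    (hr : r < D.nroots) (a : F) :
    (spUnit D P F hP hH)⁻¹ * hG.xG r a * spUnit D P F hP hH = hG.xG (P.π r) (((P.σ (P.π r) : ℤ) : F) * a) := by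
  have h1 := hG.spUnit_conj (F := F) hP hH (hP.lt r hr) (((P.σ (P.π r) : ℤ) : F) * a)
  rw [← mul_assoc, hP.sq (hP.lt r hr), one_mul, hP.invol r hr] at h1
  rw [← h1]
  group

/-- The automorphism of the group attached to a signed permutation. -/
theorem Good.exists_spAut (hP : SP.Good D P)
    (hH : ∀ j' k : Fin D.rank, ∑ j : Fin D.rank, ((P.H j' j : ℤ) : F) * ((P.H j k : ℤ) : F) = if j' = k then 1 else 0) :
    ∃ α : ↥(D.group F) ≃* ↥(D.group F), ∀ (g : ↥(D.group F)) (r : ℕ) (t : F), r < D.nroots →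
      ((g : GL D.Idx F) : Matrix D.Idx D.Idx F) = D.x F r t →
      ((α g : GL D.Idx F) : Matrix D.Idx D.Idx F) = D.x F (P.π r) (((P.σ r : ℤ) : F) * t) := by
  set u := spUnit D P F hP hH with hu
  have h1 : ∀ g ∈ D.group F, u * g * u⁻¹ ∈ D.group F := by
    have hle : D.group F ≤ (D.group F).comap (MulAut.conj u).toMonoidHom := by
      apply hG.group_le
      intro r hr t
      show u * hG.xG r t * u⁻¹ ∈ D.group F
      rw [hG.spUnit_conj hP hH hr]
      exact hG.mem_group (hP.lt r hr) _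
    exact fun g hg => hle hg
  have h2 : ∀ g ∈ D.group F, u⁻¹ * g * u ∈ D.group F := by
    have hle : D.group F ≤ (D.group F).comap (MulAut.conj u⁻¹).toMonoidHom := by
      apply hG.group_le
      intro r hr t
      show u⁻¹ * hG.xG r t * u⁻¹⁻¹ ∈ D.group F
      rw [inv_inv, hG.spUnit_conj' hP hH hr]
      exact hG.mem_group (hP.lt r hr) _
    exact fun g hg => hle hg
  refine ⟨conjAut (D.group F) u h1 h2, ?_⟩
  intro g r t hr hg
  have e : (g : GL D.Idx F) = hG.xG r t := Units.ext (by rw [hg, hG.xG_val])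
  show ((u * (g : GL D.Idx F) * u⁻¹ : GL D.Idx F) : Matrix D.Idx D.Idx F) = _
  rw [e, hG.spUnit_conj hP hH hr, hG.xG_val]

end

/-- The check of a node permutation acting on the fundamental roots. -/
def gpChk (C : Cert) (P : SP) (ρ : ℕ → ℕ) : Bool :=
  allBelow C.E.l (fun i => Nat.blt (ρ i) C.E.l && Nat.beq (P.π (C.simp i)) (C.simp (ρ i)) && Nat.beq (P.π (C.E.neg (C.simp i))) (C.E.neg (C.simp (ρ i))) &&
    decide (P.σ (C.simp i) = 1) && decide (P.σ (C.E.neg (C.simp i)) = 1)) &&
  allBelow C.E.l (fun j' => allBelow C.E.l fun k => decide (sumBelow C.E.l (fun j => P.H j' j * P.H j k) = if j' = k then 1 else 0))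

/-- A graph automorphism. -/
structure GraphCert (D : ChevalleyDatum) (C : Cert) (P : SP) (ρ : ℕ → ℕ) : Prop where
  good : SP.Good D P
  hH : ∀ j' k : Fin D.rank, ∑ j : Fin D.rank, P.H j' j * P.H j k = if j' = k then 1 else 0
  simp : ∀ i < D.rank, ρ i < D.rank ∧ P.π (D.simple i) = D.simple (ρ i) ∧ P.π (D.neg (D.simple i)) = D.neg (D.simple (ρ i)) ∧
    P.σ (D.simple i) = 1 ∧ P.σ (D.neg (D.simple i)) = 1

section

variable {D : ChevalleyDatum} {C : Cert} (hG : Good D C) {F : Type*} [Field F] {P : SP}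

theorem GraphCert.of_check {ρ : ℕ → ℕ} (hG : Good D C) (h1 : gspChk C D P = true) (h2 : gpChk C P ρ = true) : GraphCert D C P ρ := by
  have hA := hG.agree
  simp only [gpChk, Bool.and_eq_true] at h2
  obtain ⟨h3, h4⟩ := h2
  refine ⟨gsp_good hA h1, ?_, ?_⟩
  · intro j' k
    have h5 := allBelow_spec (allBelow_spec h4 j'.val (by rw [hA.hl]; exact j'.2)) k.val (by rw [hA.hl]; exact k.2)
    have h6 : sumBelow C.E.l (fun j => P.H j' j * P.H j k) = if j'.val = k.val then 1 else 0 := by
      simpa using h5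
    rw [hA.hl, sumBelow_eq] at h6
    rw [h6]
    simp only [Fin.ext_iff]
  · intro i hi
    have h5 := allBelow_spec h3 i (by rw [hA.hl]; exact hi)
    simp only [Bool.and_eq_true, decide_eq_true_eq] at h5
    obtain ⟨⟨⟨⟨h6, h7⟩, h8⟩, h9⟩, h10⟩ := h5
    have hρ : ρ i < D.rank := hA.hl ▸ Nat.le_of_ble_eq_true h6
    have hp := hG.simple_lt hi
    have hp2 := hG.simple_lt hρ
    rw [hG.simple_eq hi] at hp
    rw [hG.simple_eq hρ] at hp2
    refine ⟨hρ, ?_, ?_, ?_, ?_⟩
    · rw [hG.simple_eq hi, hG.simple_eq hρ]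
      exact Nat.eq_of_beq_eq_true h7
    · rw [hG.simple_eq hi, hG.simple_eq hρ, neg_eq hA hp, neg_eq hA hp2]
      exact Nat.eq_of_beq_eq_true h8
    · rw [hG.simple_eq hi]
      exact h9
    · rw [hG.simple_eq hi, neg_eq hA hp]
      exact h10

include hG in
/-- The automorphism attached to a node permutation. -/
theorem GraphCert.exists_aut {ρ : ℕ → ℕ} (h : GraphCert D C P ρ) :
    ∃ α : ↥(D.group F) ≃* ↥(D.group F), ∀ (g : ↥(D.group F)) (i : ℕ) (t : F), i < D.rank →
      (((g : GL D.Idx F) : Matrix D.Idx D.Idx F) = D.x F (D.simple i) t →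
        ((α g : GL D.Idx F) : Matrix D.Idx D.Idx F) = D.x F (D.simple (ρ i)) t) ∧
      (((g : GL D.Idx F) : Matrix D.Idx D.Idx F) = D.x F (D.neg (D.simple i)) t →
        ((α g : GL D.Idx F) : Matrix D.Idx D.Idx F) = D.x F (D.neg (D.simple (ρ i))) t) := by
  have hH : ∀ j' k : Fin D.rank, ∑ j : Fin D.rank, ((P.H j' j : ℤ) : F) * ((P.H j k : ℤ) : F) = if j' = k then 1 else 0 := by
    intro j' k
    have := congrArg (fun z : ℤ => (z : F)) (h.hH j' k)
    simp only [Int.cast_sum, Int.cast_mul] at this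
    rw [this]
    split_ifs <;> simp
  obtain ⟨α, hα⟩ := hG.exists_spAut (F := F) h.good hH
  refine ⟨α, fun g i t hi => ⟨fun e => ?_, fun e => ?_⟩⟩
  · obtain ⟨_, h2, _, h4, _⟩ := h.simp i hi
    have := hα g _ t (hG.simple_lt hi) e
    rw [h2, h4] at this
    simpa using this
  · obtain ⟨_, _, h3, _, h5⟩ := h.simp i hi
    have := hα g _ t (hG.shp.neg_lt _ (hG.simple_lt hi)) e
    rw [h3, h5] at this
    simpa using this

end

section comm

variable {D : ChevalleyDatum} {C : Cert} (hG : Good D C) {F : Type*} [Field F] (hE : Extra D C)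

include hG hE

/-- Field automorphisms commute with graph automorphisms. -/
theorem Extra.field_graph_comm {f g : ↥(D.group F) ≃* ↥(D.group F)} (hf : D.IsFieldAut f) (hg : D.IsGraphAut g) (y : ↥(D.group F)) :
    f (g y) = g (f y) := by
  obtain ⟨σ, hσ⟩ := hf
  obtain ⟨π, _, hπ⟩ := hg
  let E : Subgroup ↥(D.group F) := (f.toMonoidHom.comp g.toMonoidHom).eqLocus (g.toMonoidHom.comp f.toMonoidHom)
  have hmem : ∀ {r : ℕ} (hr : r < D.nroots) (t : F), (⟨hG.xG r t, hG.mem_group hr t⟩ : ↥(D.group F)) ∈ E →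
      hG.xG r t ∈ E.map (D.group F).subtype := fun _ _ h => ⟨_, h, rfl⟩
  have hsub : D.group F ≤ E.map (D.group F).subtype := by
    apply hE.group_le_fund hG
    · intro i hi t
      have hr := hG.simple_lt hi
      apply hmem hr
      show f (g _) = g (f _)
      have hi' := hG.simple_lt (π ⟨i, hi⟩).2
      apply Subtype.ext
      apply Units.ext
      rw [hσ _ _ _ hi' ((hπ _ ⟨i, hi⟩ t).1 (hG.xG_val _ _)), (hπ _ ⟨i, hi⟩ _).1 (hσ _ _ _ hr (hG.xG_val _ _)), map_pow]
    · intro i hi t
      have hr := hG.shp.neg_lt _ (hG.simple_lt hi)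
      apply hmem hr
      show f (g _) = g (f _)
      have hi' := hG.shp.neg_lt _ (hG.simple_lt (π ⟨i, hi⟩).2)
      apply Subtype.ext
      apply Units.ext
      rw [hσ _ _ _ hi' ((hπ _ ⟨i, hi⟩ t).2 (hG.xG_val _ _)), (hπ _ ⟨i, hi⟩ _).2 (hσ _ _ _ hr (hG.xG_val _ _)), map_pow]
  obtain ⟨z, hz, e⟩ := hsub y.2
  have : z = y := Subtype.ext e
  rw [← this]
  exact hz

end comm

end CfsgLib.Chev
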