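/-
The graph automorphisms of E₆ and D₄.
-/
import Cfsg.Agent.Lib.Chev.Graph
import Cfsg.Agent.Lib.Chev.AllP

set_option autoImplicit false
set_option maxHeartbeats 4000000

namespace CfsgLib.Chev

open Cfsg.Lie

def spE6 : SP where
  π := fun r => ([0, 1, 2, 5, 16, 3, 6, 17, 8, 19, 22, 11, 26, 30, 33, 35, 4, 7, 18, 9, 20, 23, 10, 21, 24, 25, 12, 27, 31, 34, 13, 28, 32, 14, 29, 15, 56, 42, 57, 39, 43, 58, 37, 40, 44, 59, 46, 47, 50, 61, 48, 51, 62, 53, 64, 67, 36, 38, 41, 45, 60, 49, 52, 63, 54, 65, 68, 55, 66, 69, 70, 71] : List ℕ).getD r 0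
  σ := fun r => ([1, 1, 1, 1, -1, 1, 1, -1, 1, -1, -1, 1, -1, 1, -1, 1, -1, -1, 1, -1, 1, 1, -1, 1, 1, 1, -1, 1, -1, 1, 1, -1, 1, -1, 1, 1, 1, 1, -1, 1, -1, 1, 1, -1, 1, -1, 1, 1, 1, -1, 1, 1, -1, 1, -1, -1, 1, -1, 1, -1, 1, -1, -1, 1, -1, 1, 1, -1, 1, 1, 1, 1] : List ℤ).getD r 1
  H := fun j' j => if j' = ([5, 1, 4, 3, 2, 0] : List ℕ).getD j 0 then 1 else 0

theorem spE6.cert : GraphCert chevE6 TE6.cert spE6 (fun i => ([5, 1, 4, 3, 2, 0] : List ℕ).getD i 0) :=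
  GraphCert.of_check TE6.good (by decide +kernel) (by decide +kernel)

def spD4a : SP where
  π := fun r => ([0, 1, 2, 6, 7, 10, 3, 4, 8, 9, 5, 11, 12, 18, 14, 15, 19, 20, 13, 16, 17, 21, 22, 23] : List ℕ).getD r 0
  σ := fun r => ([1, 1, 1, -1, -1, 1, -1, -1, 1, 1, 1, 1, 1, 1, 1, 1, -1, -1, 1, -1, -1, 1, 1, 1] : List ℤ).getD r 1
  H := fun j' j => if j' = ([2, 1, 0, 3] : List ℕ).getD j 0 then 1 else 0

theorem spD4a.cert : GraphCert chevD4 TD4.cert spD4a (fun i => ([2, 1, 0, 3] : List ℕ).getD i 0) :=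
  GraphCert.of_check TD4.good (by decide +kernel) (by decide +kernel)

def spD4b : SP where
  π := fun r => ([0, 1, 6, 3, 8, 11, 2, 7, 4, 9, 10, 5, 18, 13, 14, 19, 16, 21, 12, 15, 20, 17, 22, 23] : List ℕ).getD r 0
  σ := fun r => ([1, 1, -1, 1, -1, 1, -1, 1, -1, 1, 1, 1, 1, 1, 1, -1, 1, -1, 1, -1, 1, -1, 1, 1] : List ℤ).getD r 1
  H := fun j' j => if j' = ([3, 1, 2, 0] : List ℕ).getD j 0 then 1 else 0

theorem spD4b.cert : GraphCert chevD4 TD4.cert spD4b (fun i => ([3, 1, 2, 0] : List ℕ).getD i 0) :=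
  GraphCert.of_check TD4.good (by decide +kernel) (by decide +kernel)

def spD4c : SP where
  π := fun r => ([0, 1, 3, 2, 4, 5, 6, 8, 7, 9, 11, 10, 13, 12, 14, 16, 15, 17, 18, 19, 21, 20, 22, 23] : List ℕ).getD r 0
  σ := fun r => ([1, 1, 1, 1, 1, 1, 1, 1, 1, 1, 1, 1, 1, 1, 1, 1, 1, 1, 1, 1, 1, 1, 1, 1] : List ℤ).getD r 1
  H := fun j' j => if j' = ([0, 1, 3, 2] : List ℕ).getD j 0 then 1 else 0

theorem spD4c.cert : GraphCert chevD4 TD4.cert spD4c (fun i => ([0, 1, 3, 2] : List ℕ).getD i 0) :=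
  GraphCert.of_check TD4.good (by decide +kernel) (by decide +kernel)

end CfsgLib.Chev
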