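/-
The tables of the graph automorphisms in characteristics 2 and 3.
-/
import Cfsg.Agent.Lib.Chev.GraphFrob

set_option autoImplicit false
set_option maxHeartbeats 4000000

namespace CfsgLib.Chev

open Cfsg.Lie Cfsg.Lie.ChevalleyDatum

/-- The graph table of type `B2`. -/
def gfB2 : GF := ⟨fun r => ([1, 0, 3, 2, 5, 4, 7, 6] : List ℕ).getD r 0, fun r => ([1, 2, 2, 1, 1, 2, 2, 1] : List ℕ).getD r 1⟩

theorem gfB2_chk : GF.chk chevB2 2 gfB2 = true := by decide +kernel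

theorem gfB2_simple : ∀ i < chevB2.rank, gfB2.ρ (chevB2.simple i) = chevB2.simple (([(1, 2), (0, 1)] : List (ℕ × ℕ)).getD i (0, 1)).1 ∧
    gfB2.lam (chevB2.simple i) = (([(1, 2), (0, 1)] : List (ℕ × ℕ)).getD i (0, 1)).2 ∧
    gfB2.ρ (chevB2.neg (chevB2.simple i)) = chevB2.neg (chevB2.simple (([(1, 2), (0, 1)] : List (ℕ × ℕ)).getD i (0, 1)).1) ∧
    gfB2.lam (chevB2.neg (chevB2.simple i)) = (([(1, 2), (0, 1)] : List (ℕ × ℕ)).getD i (0, 1)).2 := by decide +kernel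

/-- The graph table of type `F4`. -/
def gfF4 : GF := ⟨fun r => ([3, 7, 8, 0, 9, 11, 18, 1, 2, 4, 15, 5, 16, 21, 23, 10, 12, 19, 6, 17, 22, 13, 20, 14, 33, 27, 34, 25, 30, 41, 28, 35, 37, 24, 26, 31, 42, 32, 43, 45, 46, 29, 36, 38, 47, 39, 40, 44] : List ℕ).getD r 0, fun r => ([1, 1, 1, 2, 1, 1, 1, 2, 2, 2, 2, 2, 2, 2, 2, 1, 1, 1, 2, 2, 2, 1, 1, 1, 1, 1, 1, 2, 2, 2, 1, 1, 1, 2, 2, 2, 2, 2, 2, 2, 2, 1, 1, 1, 2, 1, 1, 1] : List ℕ).getD r 1⟩

theorem gfF4_chk : GF.chk chevF4 2 gfF4 = true := by decide +kernel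

theorem gfF4_simple : ∀ i < chevF4.rank, gfF4.ρ (chevF4.simple i) = chevF4.simple (([(3, 2), (2, 2), (1, 1), (0, 1)] : List (ℕ × ℕ)).getD i (0, 1)).1 ∧
    gfF4.lam (chevF4.simple i) = (([(3, 2), (2, 2), (1, 1), (0, 1)] : List (ℕ × ℕ)).getD i (0, 1)).2 ∧
    gfF4.ρ (chevF4.neg (chevF4.simple i)) = chevF4.neg (chevF4.simple (([(3, 2), (2, 2), (1, 1), (0, 1)] : List (ℕ × ℕ)).getD i (0, 1)).1) ∧
    gfF4.lam (chevF4.neg (chevF4.simple i)) = (([(3, 2), (2, 2), (1, 1), (0, 1)] : List (ℕ × ℕ)).getD i (0, 1)).2 := by decide +kernel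

/-- The graph table of type `G2`. -/
def gfG2 : GF := ⟨fun r => ([2, 3, 0, 1, 5, 4, 7, 6, 10, 11, 8, 9] : List ℕ).getD r 0, fun r => ([1, 1, 3, 3, 3, 1, 1, 3, 3, 3, 1, 1] : List ℕ).getD r 1⟩

theorem gfG2_chk : GF.chk chevG2 3 gfG2 = true := by decide +kernel

theorem gfG2_simple : ∀ i < chevG2.rank, gfG2.ρ (chevG2.simple i) = chevG2.simple (([(1, 3), (0, 1)] : List (ℕ × ℕ)).getD i (0, 1)).1 ∧
    gfG2.lam (chevG2.simple i) = (([(1, 3), (0, 1)] : List (ℕ × ℕ)).getD i (0, 1)).2 ∧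
    gfG2.ρ (chevG2.neg (chevG2.simple i)) = chevG2.neg (chevG2.simple (([(1, 3), (0, 1)] : List (ℕ × ℕ)).getD i (0, 1)).1) ∧
    gfG2.lam (chevG2.neg (chevG2.simple i)) = (([(1, 3), (0, 1)] : List (ℕ × ℕ)).getD i (0, 1)).2 := by decide +kernel

section

variable {D : ChevalleyDatum} {C : Cert} (hG : Good D C) {K : Type*} [Field K] {p : ℕ} {T : GF} [Fact p.Prime] [CharP K p]

/-- The graph–Frobenius automorphism, on matrices. -/
theorem GF.exists_aut' (h : T.chk D p = true) (hperf : ∀ x : K, ∃ y : K, y ^ p = x) (hE : Extra D C) (hB : Braid D C) (hL : HasLong D C)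
    (hR : (hG.coverSys K).Rank1) :
    ∃ α : ↥(D.group K) ≃* ↥(D.group K), ∀ (g : ↥(D.group K)) (r : ℕ) (t : K), r < D.nroots →
      ((g : GL D.Idx K) : Matrix D.Idx D.Idx K) = D.x K r t →
      ((α g : GL D.Idx K) : Matrix D.Idx D.Idx K) = D.x K (T.ρ r) (t ^ T.lam r) := by
  obtain ⟨α, hα⟩ := GF.exists_aut hG h hperf hE hB hL hR
  refine ⟨α, ?_⟩
  intro g r t hr hg
  have e : g = ⟨hG.xG r t, hG.mem_group hr t⟩ := Subtype.ext (Units.ext (by rw [hg, hG.xG_val]))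
  rw [e, hα r hr t]
  exact hG.xG_val _ _

/-- The graph–Frobenius automorphism, on fundamental root elements. -/
theorem GF.exists_aut_simple {P : List (ℕ × ℕ)} (h : T.chk D p = true) (hperf : ∀ x : K, ∃ y : K, y ^ p = x) (hE : Extra D C) (hB : Braid D C) (hL : HasLong D C)
    (hR : (hG.coverSys K).Rank1)
    (hs : ∀ i < D.rank, T.ρ (D.simple i) = D.simple (P.getD i (0, 1)).1 ∧ T.lam (D.simple i) = (P.getD i (0, 1)).2 ∧
      T.ρ (D.neg (D.simple i)) = D.neg (D.simple (P.getD i (0, 1)).1) ∧ T.lam (D.neg (D.simple i)) = (P.getD i (0, 1)).2) :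
    ∃ α : ↥(D.group K) ≃* ↥(D.group K), ∀ (g : ↥(D.group K)) (i : ℕ) (t : K), i < D.rank →
      (((g : GL D.Idx K) : Matrix D.Idx D.Idx K) = D.x K (D.simple i) t →
        ((α g : GL D.Idx K) : Matrix D.Idx D.Idx K) = D.x K (D.simple (P.getD i (0, 1)).1) (t ^ (P.getD i (0, 1)).2)) ∧
      (((g : GL D.Idx K) : Matrix D.Idx D.Idx K) = D.x K (D.neg (D.simple i)) t →
        ((α g : GL D.Idx K) : Matrix D.Idx D.Idx K) = D.x K (D.neg (D.simple (P.getD i (0, 1)).1)) (t ^ (P.getD i (0, 1)).2)) := by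
  obtain ⟨α, hα⟩ := GF.exists_aut' hG h hperf hE hB hL hR
  refine ⟨α, fun g i t hi => ⟨fun e => ?_, fun e => ?_⟩⟩
  · obtain ⟨h1, h2, _, _⟩ := hs i hi
    have := hα g _ t (hG.simple_lt hi) e
    rw [h1, h2] at this
    exact this
  · obtain ⟨_, _, h1, h2⟩ := hs i hi
    have := hα g _ t (hG.shp.neg_lt _ (hG.simple_lt hi)) e
    rw [h1, h2] at this
    exact this

end

end CfsgLib.Chev
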