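/-
Parabolic subgroups of the Chevalley groups.
-/
import Cfsg.Agent.Lib.Chev.Long

set_option autoImplicit false

namespace CfsgLib.Chev

open Cfsg.Lie Cfsg.Lie.ChevalleyDatum CfsgLib.BN

section sub

variable {D : ChevalleyDatum} {F : Type*} [Field F]

/-- The subgroup of matrices not lowering the level, with their inverses. -/
def nlSub (D : ChevalleyDatum) (F : Type*) [Field F] (a : ℕ → ℤ) : Subgroup (GL D.Idx F) where
  carrier := {g | NoLower (D := D) a (g : Matrix D.Idx D.Idx F) ∧ NoLower (D := D) a ((g⁻¹ : GL D.Idx F) : Matrix D.Idx D.Idx F)}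
  mul_mem' := by
    rintro x y ⟨h1, h2⟩ ⟨h3, h4⟩
    constructor
    · rw [Units.val_mul]
      exact h1.mul h3
    · rw [_root_.mul_inv_rev, Units.val_mul]
      exact h4.mul h2
  one_mem' := by
    constructor
    · simpa using noLower_one (D := D) (F := F) (a := a)
    · simpa using noLower_one (D := D) (F := F) (a := a)
  inv_mem' := by
    rintro x ⟨h1, h2⟩
    exact ⟨h2, by simpa using h1⟩

/-- The subgroup of matrices raising the level, with their inverses. -/
def raSub (D : ChevalleyDatum) (F : Type*) [Field F] (a : ℕ → ℤ) : Subgroup (GL D.Idx F) where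
  carrier := {g | Raises (D := D) a 1 (g : Matrix D.Idx D.Idx F) ∧ Raises (D := D) a 1 ((g⁻¹ : GL D.Idx F) : Matrix D.Idx D.Idx F)}
  mul_mem' := by
    rintro x y ⟨h1, h2⟩ ⟨h3, h4⟩
    constructor
    · rw [Units.val_mul]
      exact h1.mul (by omega) h3
    · rw [_root_.mul_inv_rev, Units.val_mul]
      exact h4.mul (by omega) h2
  one_mem' := by
    constructor
    · simpa using raises_one (D := D) (F := F) (a := a) 1
    · simpa using raises_one (D := D) (F := F) (a := a) 1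
  inv_mem' := by
    rintro x ⟨h1, h2⟩
    exact ⟨h2, by simpa using h1⟩

end sub

section

variable {D : ChevalleyDatum} {C : Cert} (hG : Good D C) {F : Type*} [Field F]

lemma Good.xG_mem_raSub {a : ℕ → ℤ} (ha : AddF D a) {r : ℕ} (hr : r < D.nroots) (h : 1 ≤ a r) (t : F) :
    hG.xG r t ∈ raSub D F a := by
  constructor
  · rw [hG.xG_val]
    exact (x_raises ha hG.shp hr (by omega) t).mono h
  · rw [hG.xG_neg, hG.xG_val]
    exact (x_raises ha hG.shp hr (by omega) (-t)).mono h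

lemma Good.xG_mem_nlSub {a : ℕ → ℤ} (ha : AddF D a) {r : ℕ} (hr : r < D.nroots) (h : 0 ≤ a r) (t : F) :
    hG.xG r t ∈ nlSub D F a := by
  constructor
  · rw [hG.xG_val]
    exact (x_raises ha hG.shp hr h t).noLower h
  · rw [hG.xG_neg, hG.xG_val]
    exact (x_raises ha hG.shp hr h (-t)).noLower h

include hG in
lemma Good.diagonal_le_nlSub (a : ℕ → ℤ) : D.diagonalSubgroup F ≤ nlSub D F a := by
  intro g hg
  exact ⟨hG.diagonal_noLower a hg, hG.diagonal_noLower a (Subgroup.inv_mem _ hg)⟩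

/-- The linear form vanishing on the roots of `Φ_J`. -/
noncomputable def lamJ (C : Cert) (n : ℕ) (J : Set ℕ) (r : ℕ) : ℤ :=
  open Classical in ∑ j : Fin n, if (j : ℕ) ∈ J then 0 else C.coef r j

include hG in
lemma Good.addF_lamJ (J : Set ℕ) : AddF D (lamJ C D.rank J) where
  neg := by
    intro r hr
    unfold lamJ
    rw [← Finset.sum_neg_distrib]
    apply Finset.sum_congr rfl
    intro j _
    split_ifs
    · simp
    · exact hG.coef_neg hr j.2
  chain := by
    intro r hr s hs k e he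
    unfold lamJ
    rw [Finset.mul_sum, ← Finset.sum_add_distrib]
    apply Finset.sum_congr rfl
    intro j _
    split_ifs
    · simp
    · exact hG.coef_chain hr hs he j.2

variable (hE : Extra D C)

include hG hE

lemma Extra.lamJ_nonneg (J : Set ℕ) {r : ℕ} (hr : r < D.nroots) (h : D.nroots / 2 ≤ r) : 0 ≤ lamJ C D.rank J r := by
  unfold lamJ
  apply Finset.sum_nonneg
  intro j _
  split_ifs
  · exact le_refl _
  · exact hE.coefPos r hr h j j.2

lemma Extra.lamJ_nonpos (J : Set ℕ) {r : ℕ} (hr : r < D.nroots) (h : r < D.nroots / 2) : lamJ C D.rank J r ≤ 0 := by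
  unfold lamJ
  apply Finset.sum_nonpos
  intro j _
  split_ifs
  · exact le_refl _
  · exact hE.coefNeg r hr h j j.2

/-- `Φ_J` is the zero set of the linear form. -/
lemma Extra.lamJ_eq_zero_iff (J : Set ℕ) {r : ℕ} (hr : r < D.nroots) :
    lamJ C D.rank J r = 0 ↔ D.InRootSub J r := by
  classical
  have hsplit : ∀ j : Fin D.rank, 0 ≤ (if (j : ℕ) ∈ J then 0 else C.coef r j) ∨ True := fun _ => Or.inr trivial
  constructor
  · intro h
    refine ⟨hr, fun i hi hiJ => ?_⟩
    show corOf D r i = 0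
    rw [hE.corZero r hr i hi]
    by_cases hp : D.nroots / 2 ≤ r
    · have h1 := (Finset.sum_eq_zero_iff_of_nonneg (fun (j : Fin D.rank) _ => by
        split_ifs
        · exact le_refl _
        · exact hE.coefPos r hr hp j j.2)).1 h ⟨i, hi⟩ (Finset.mem_univ _)
      simpa [hiJ] using h1
    · have h1 := (Finset.sum_eq_zero_iff_of_nonpos (fun (j : Fin D.rank) _ => by
        split_ifs
        · exact le_refl _
        · exact hE.coefNeg r hr (not_le.1 hp) j j.2)).1 h ⟨i, hi⟩ (Finset.mem_univ _)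
      simpa [hiJ] using h1
  · rintro ⟨_, h⟩
    unfold lamJ
    apply Finset.sum_eq_zero
    intro j _
    split_ifs with hj
    · rfl
    · exact (hE.corZero r hr j j.2).1 (h j j.2 hj)

lemma Extra.posOut_iff (J : Set ℕ) {r : ℕ} :
    (D.IsPosRoot r ∧ ¬ D.InRootSub J r) ↔ (r < D.nroots ∧ 1 ≤ lamJ C D.rank J r) := by
  constructor
  · rintro ⟨h1, h2⟩
    have hr := h1.1
    refine ⟨hr, ?_⟩
    have h3 := hE.lamJ_nonneg hG J hr ((hE.posIff r hr).1 h1)
    have h4 := (hE.lamJ_eq_zero_iff hG J hr).not.2 h2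
    omega
  · rintro ⟨hr, h1⟩
    refine ⟨?_, fun h2 => ?_⟩
    · rw [hE.posIff r hr]
      by_contra h3
      have := hE.lamJ_nonpos hG J hr (not_le.1 h3)
      omega
    · have := (hE.lamJ_eq_zero_iff hG J hr).2 h2
      omega

lemma Extra.posOrIn_iff (J : Set ℕ) {r : ℕ} :
    (D.IsPosRoot r ∨ D.InRootSub J r) ↔ (r < D.nroots ∧ 0 ≤ lamJ C D.rank J r) := by
  constructor
  · rintro (h1 | h1)
    · have hr := h1.1
      exact ⟨hr, hE.lamJ_nonneg hG J hr ((hE.posIff r hr).1 h1)⟩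
    · have hr := h1.1
      have := (hE.lamJ_eq_zero_iff hG J hr).2 h1
      exact ⟨hr, by omega⟩
  · rintro ⟨hr, h1⟩
    by_cases h2 : lamJ C D.rank J r = 0
    · exact Or.inr ((hE.lamJ_eq_zero_iff hG J hr).1 h2)
    · left
      rw [hE.posIff r hr]
      by_contra h3
      have := hE.lamJ_nonpos hG J hr (not_le.1 h3)
      omega

lemma Extra.inOfLam (J : Set ℕ) {r : ℕ} :
    D.InRootSub J r ↔ (r < D.nroots ∧ lamJ C D.rank J r = 0) := by
  constructor
  · intro h
    exact ⟨h.1, (hE.lamJ_eq_zero_iff hG J h.1).2 h⟩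
  · rintro ⟨hr, h⟩
    exact (hE.lamJ_eq_zero_iff hG J hr).1 h

/-- Closed description of `U_J`. -/
lemma Extra.unipotentRadical_eq (J : Set ℕ) : D.unipotentRadical F J =
    Subgroup.closure {g : GL D.Idx F | ∃ r, (r < D.nroots ∧ 1 ≤ lamJ C D.rank J r) ∧ ∃ t : F, g = hG.xG r t} := by
  unfold ChevalleyDatum.unipotentRadical
  congr 1
  ext g
  constructor
  · rintro ⟨r, t, h1, h2, h3⟩
    exact ⟨r, (hE.posOut_iff hG J).1 ⟨h1, h2⟩, t, Units.ext h3⟩
  · rintro ⟨r, h, t, rfl⟩
    obtain ⟨h1, h2⟩ := (hE.posOut_iff hG J).2 h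
    exact ⟨r, t, h1, h2, hG.xG_val _ _⟩

/-- Closed description of `L_J`. -/
lemma Extra.levi_eq (J : Set ℕ) : D.leviSubgroup F J = D.diagonalSubgroup F ⊔
    Subgroup.closure {g : GL D.Idx F | ∃ r, (r < D.nroots ∧ lamJ C D.rank J r = 0) ∧ ∃ t : F, g = hG.xG r t} := by
  unfold ChevalleyDatum.leviSubgroup
  congr 2
  ext g
  constructor
  · rintro ⟨r, t, h1, h3⟩
    exact ⟨r, (hE.inOfLam hG J).1 h1, t, Units.ext h3⟩
  · rintro ⟨r, h, t, rfl⟩
    exact ⟨r, t, (hE.inOfLam hG J).2 h, hG.xG_val _ _⟩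

/-- The generators of `P_J`. -/
def Good.Xge (hG : Good D C) (F : Type*) [Field F] (J : Set ℕ) : Subgroup (GL D.Idx F) :=
  Subgroup.closure {g : GL D.Idx F | ∃ r, (r < D.nroots ∧ 0 ≤ lamJ C D.rank J r) ∧ ∃ t : F, g = hG.xG r t}

lemma Extra.closure_posOrIn (J : Set ℕ) :
    Subgroup.closure {g : GL D.Idx F | ∃ (r : ℕ) (t : F), (D.IsPosRoot r ∨ D.InRootSub J r) ∧ (g : Matrix D.Idx D.Idx F) = D.x F r t} =
      hG.Xge F J := by
  unfold Good.Xge
  congr 1
  ext g
  constructor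
  · rintro ⟨r, t, h1, h3⟩
    exact ⟨r, (hE.posOrIn_iff hG J).1 h1, t, Units.ext h3⟩
  · rintro ⟨r, h, t, rfl⟩
    exact ⟨r, t, (hE.posOrIn_iff hG J).2 h, hG.xG_val _ _⟩

/-- The simple reflections in the parabolic. -/
lemma Extra.parabolic_eq (J : Set ℕ) : D.parabolicSubgroup F J = D.borelSubgroup F ⊔
    Subgroup.closure {g : GL D.Idx F | ∃ (j : ℕ) (hj : j < D.rank), j ∈ J ∧ g = hG.nG hj F} := by
  unfold ChevalleyDatum.parabolicSubgroup
  congr 2
  ext g
  constructor
  · rintro ⟨j, h1, h2, h3⟩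
    refine ⟨j, h2, h1, Units.ext ?_⟩
    rw [h3, hG.nG_eq h2, hG.nnG_val]
  · rintro ⟨j, h2, h1, rfl⟩
    refine ⟨j, h1, h2, ?_⟩
    rw [hG.nG_eq h2, hG.nnG_val]

/-- The index of a step stays in `J`. -/
lemma Extra.mem_of_coef_pos {J : Set ℕ} {r i : ℕ} (hr : D.InRootSub J r) (hi : i < D.rank) (h : C.coef r i ≠ 0) : i ∈ J := by
  by_contra hiJ
  exact h ((hE.corZero r hr.1 i hi).1 (hr.2 i hi hiJ))

/-- The negative root elements of `Φ_J` lie in `P_J`. -/
lemma Extra.neg_mem_parabolic (J : Set ℕ) {r : ℕ} (hr : D.InRootSub J r) (hp : D.nroots / 2 ≤ r) (t : F) :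
    hG.xG (D.neg r) t ∈ D.parabolicSubgroup F J := by
  rw [hE.parabolic_eq hG]
  induction r using Nat.strong_induction_on generalizing t with
  | _ r ih =>
    have hr1 := hr.1
    obtain ⟨i, hi, h⟩ := hE.desc r hr1 hp
    have hiJ : i ∈ J := by
      apply hE.mem_of_coef_pos hG hr hi
      rcases h with h | ⟨h, _, _⟩
      · rw [h, hE.coefS i hi i hi, if_pos rfl]
        omega
      · omega
    have hnG : hG.nG hi F ∈ D.borelSubgroup F ⊔
        Subgroup.closure {g : GL D.Idx F | ∃ (j : ℕ) (hj : j < D.rank), j ∈ J ∧ g = hG.nG hj F} :=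
      Subgroup.mem_sup_right (Subgroup.subset_closure ⟨i, hi, hiJ, rfl⟩)
    rcases h with h | ⟨_, h2, h3⟩
    · rw [← hG.simple_eq hi] at h
      have h1 := hG.nnG_conj_self (F := F) (hG.simple_lt hi) one_ne_zero (-t)
      rw [← hG.nG_eq hi] at h1
      have e : -((1 : F)⁻¹ * (1 : F)⁻¹ * -t) = t := by simp
      rw [e] at h1
      rw [h, ← h1]
      refine Subgroup.mul_mem _ (Subgroup.mul_mem _ hnG ?_) (Subgroup.inv_mem _ hnG)
      apply Subgroup.mem_sup_left
      exact Subgroup.mem_sup_left (hG.posUnipotent_mem ((hE.posIff _ (hG.simple_lt hi)).2 (hE.simple_high hG hi)) _)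
    · have hr' : D.InRootSub J (C.pi i r) := by
        refine ⟨hG.pi_lt hi hr1, fun k hk hkJ => ?_⟩
        show corOf D (C.pi i r) k = 0
        rw [hE.corZero _ (hG.pi_lt hi hr1) k hk, (hG.coef_spec hr1 hi).2 k hk, if_neg (by
          rintro rfl
          exact hkJ hiJ), sub_zero]
        exact (hE.corZero r hr1 k hk).1 (hr.2 k hk hkJ)
      have h4 := ih _ h2 hr' h3 (((C.sg i (D.neg (C.pi i r)) : ℤ) : F) * t)
      have h5 := hG.nG_conj (F := F) hi (hG.shp.neg_lt _ (hG.pi_lt hi hr1)) (((C.sg i (D.neg (C.pi i r)) : ℤ) : F) * t)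
      rw [← mul_assoc, hG.sg_sq hi (hG.shp.neg_lt _ (hG.pi_lt hi hr1)), one_mul, hG.pi_neg hi (hG.pi_lt hi hr1), hG.pi_pi hi hr1] at h5
      rw [← h5]
      exact Subgroup.mul_mem _ (Subgroup.mul_mem _ hnG h4) (Subgroup.inv_mem _ hnG)

/-- `P_J = H ⟨X_r : r ∈ Φ⁺ ∪ Φ_J⟩`. -/
theorem Extra.parabolic_eq_gens (J : Set ℕ) : D.parabolicSubgroup F J = D.diagonalSubgroup F ⊔ hG.Xge F J := by
  apply le_antisymm
  · rw [hE.parabolic_eq hG]
    have hU : D.posUnipotent F ≤ hG.Xge F J := by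
      rw [hG.posUnipotent_eq]
      apply (Subgroup.closure_le _).2
      rintro _ ⟨r, hr, t, rfl⟩
      exact Subgroup.subset_closure ⟨r, (hE.posOrIn_iff hG J).1 (Or.inl hr), t, rfl⟩
    refine sup_le (sup_le (le_trans hU le_sup_right) le_sup_left) ?_
    apply (Subgroup.closure_le _).2
    rintro _ ⟨j, hj, hjJ, rfl⟩
    apply Subgroup.mem_sup_right
    rw [hG.nG_eq hj]
    have hp := hG.simple_lt hj
    have hin : D.InRootSub J (D.simple j) := by
      refine ⟨hp, fun k hk hkJ => ?_⟩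
      show corOf D (D.simple j) k = 0
      rw [hG.simple_eq hj, hE.corS j hj k hk, if_neg]
      rintro rfl
      exact hkJ hjJ
    have h1 := hE.lamJ_eq_zero_iff hG J hp |>.2 hin
    have hneg : lamJ C D.rank J (D.neg (D.simple j)) = 0 := by
      rw [(hG.addF_lamJ J).neg _ hp, h1]
      simp
    have hnp := hG.shp.neg_lt _ hp
    unfold Good.nnG nn
    refine Subgroup.mul_mem _ (Subgroup.mul_mem _ ?_ ?_) ?_
    · exact Subgroup.subset_closure ⟨_, ⟨hp, by omega⟩, _, rfl⟩
    · exact Subgroup.subset_closure ⟨_, ⟨hnp, by omega⟩, _, rfl⟩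
    · exact Subgroup.subset_closure ⟨_, ⟨hp, by omega⟩, _, rfl⟩
  · refine sup_le ?_ ?_
    · unfold ChevalleyDatum.parabolicSubgroup ChevalleyDatum.borelSubgroup
      exact le_trans le_sup_right le_sup_left
    · apply (Subgroup.closure_le _).2
      rintro _ ⟨r, h, t, rfl⟩
      rcases (hE.posOrIn_iff hG J).2 h with h1 | h1
      · unfold ChevalleyDatum.parabolicSubgroup ChevalleyDatum.borelSubgroup
        exact Subgroup.mem_sup_left (Subgroup.mem_sup_left (hG.posUnipotent_mem h1 t))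
      · have hr := h1.1
        by_cases hp : D.nroots / 2 ≤ r
        · unfold ChevalleyDatum.parabolicSubgroup ChevalleyDatum.borelSubgroup
          exact Subgroup.mem_sup_left (Subgroup.mem_sup_left (hG.posUnipotent_mem ((hE.posIff r hr).2 hp) t))
        · have h2 := hE.neg_of_low hG hr (not_le.1 hp)
          have hnr := hG.shp.neg_lt r hr
          have h3 : D.InRootSub J (D.neg r) := by
            rw [hE.inOfLam hG]
            have := (hE.lamJ_eq_zero_iff hG J hr).2 h1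
            refine ⟨hnr, ?_⟩
            rw [(hG.addF_lamJ J).neg _ hr, this]
            simp
          have h4 := hE.neg_mem_parabolic hG J h3 h2 t
          rwa [hG.shp.neg_neg r hr] at h4

/-- The normalising statement. -/
theorem Extra.Xge_conj (J : Set ℕ) {s r : ℕ} (hs : s < D.nroots) (hs2 : 0 ≤ lamJ C D.rank J s)
    (hr : r < D.nroots) (hr2 : 1 ≤ lamJ C D.rank J r) (t u : F) :
    hG.xG s t * hG.xG r u * (hG.xG s t)⁻¹ ∈ D.unipotentRadical F J := by
  rw [hE.unipotentRadical_eq hG]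
  have ha := hG.addF_lamJ J
  have hmem : hG.xG r u ∈ Subgroup.closure {g : GL D.Idx F | ∃ r, (r < D.nroots ∧ 1 ≤ lamJ C D.rank J r) ∧ ∃ t : F, g = hG.xG r t} :=
    Subgroup.subset_closure ⟨r, ⟨hr, hr2⟩, u, rfl⟩
  by_cases h1 : r = s
  · subst h1
    rw [hG.xG_neg, hG.xG_add, hG.xG_add]
    have : t + u + -t = u := by ring
    rw [this]
    exact hmem
  by_cases h2 : r = D.neg s
  · exfalso
    rw [h2, ha.neg s hs] at hr2
    omega
  rw [hG.conj_word hs hr h1 h2]
  apply Subgroup.mul_mem _ hmem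
  apply hG.wordG_mem
  intro p hp
  unfold ChevalleyDatum.commWord at hp
  rw [List.mem_map] at hp
  obtain ⟨q, hq, rfl⟩ := hp
  have hq1 := commTerms_lt hG.shp hs hr hq
  have hq2 := commTerms_add ha hG.shp hs hr hq
  have hab := commTerms_pos D s r hq
  have ha1 : (1 : ℤ) ≤ q.2.2.1 := by exact_mod_cast hab.1
  have hb1 : (1 : ℤ) ≤ q.2.2.2 := by exact_mod_cast hab.2
  refine Subgroup.subset_closure ⟨q.1, ⟨hq1, ?_⟩, _, rfl⟩
  rw [hq2]
  nlinarith

/-- `P_J` normalises `U_J`. -/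
theorem Extra.parabolic_le_normalizer (J : Set ℕ) :
    D.parabolicSubgroup F J ≤ Subgroup.normalizer (D.unipotentRadical F J : Set (GL D.Idx F)) := by
  rw [hE.parabolic_eq_gens hG]
  refine sup_le ?_ ?_
  · rw [hE.unipotentRadical_eq hG]
    exact hG.diagonal_le_normalizer _ (fun r h => h.1)
  · have h0 := hE.unipotentRadical_eq hG (F := F) J
    unfold Good.Xge
    rw [h0]
    apply le_normalizer_of_gens
    · rintro _ ⟨s, ⟨hs, hs2⟩, t, rfl⟩ _ ⟨r, ⟨hr, hr2⟩, u, rfl⟩
      rw [← h0]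
      exact hE.Xge_conj hG J hs hs2 hr hr2 t u
    · rintro _ ⟨s, ⟨hs, hs2⟩, t, rfl⟩ _ ⟨r, ⟨hr, hr2⟩, u, rfl⟩
      rw [← h0]
      have := hE.Xge_conj hG J hs hs2 hr hr2 (-t) u
      rw [hG.xG_neg]
      rwa [hG.xG_neg s (-t), neg_neg] at this

/-- `U_J L_J = P_J`. -/
theorem Extra.sup_levi (J : Set ℕ) : D.unipotentRadical F J ⊔ D.leviSubgroup F J = D.parabolicSubgroup F J := by
  rw [hE.parabolic_eq_gens hG, hE.unipotentRadical_eq hG, hE.levi_eq hG]
  apply le_antisymm
  · refine sup_le ?_ (sup_le le_sup_left ?_)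
    · apply le_trans _ le_sup_right
      apply Subgroup.closure_mono
      rintro _ ⟨r, ⟨hr, h⟩, t, rfl⟩
      exact ⟨r, ⟨hr, by omega⟩, t, rfl⟩
    · apply le_trans _ le_sup_right
      apply Subgroup.closure_mono
      rintro _ ⟨r, ⟨hr, h⟩, t, rfl⟩
      exact ⟨r, ⟨hr, by omega⟩, t, rfl⟩
  · refine sup_le (le_trans le_sup_left le_sup_right) ?_
    apply (Subgroup.closure_le _).2
    rintro _ ⟨r, ⟨hr, h⟩, t, rfl⟩
    by_cases h0 : lamJ C D.rank J r = 0
    · exact Subgroup.mem_sup_right (Subgroup.mem_sup_right (Subgroup.subset_closure ⟨r, ⟨hr, h0⟩, t, rfl⟩))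
    · exact Subgroup.mem_sup_left (Subgroup.subset_closure ⟨r, ⟨hr, by omega⟩, t, rfl⟩)

/-- `U_J ∩ L_J = 1`. -/
theorem Extra.inf_levi (J : Set ℕ) : D.unipotentRadical F J ⊓ D.leviSubgroup F J = ⊥ := by
  rw [eq_bot_iff]
  intro g hg
  obtain ⟨h1, h2⟩ := Subgroup.mem_inf.1 hg
  have ha := hG.addF_lamJ J
  have hra : D.unipotentRadical F J ≤ raSub D F (lamJ C D.rank J) := by
    rw [hE.unipotentRadical_eq hG]
    apply (Subgroup.closure_le _).2
    rintro _ ⟨r, ⟨hr, h⟩, t, rfl⟩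
    exact hG.xG_mem_raSub ha hr h t
  have hnl : D.leviSubgroup F J ≤ nlSub D F (fun r => - lamJ C D.rank J r) := by
    rw [hE.levi_eq hG]
    refine sup_le (hG.diagonal_le_nlSub _) ?_
    apply (Subgroup.closure_le _).2
    rintro _ ⟨r, ⟨hr, h⟩, t, rfl⟩
    exact hG.xG_mem_nlSub ha.negate hr (by rw [h]; simp) t
  have h3 := eq_one_of_raises_noLower (D := D) (a := lamJ C D.rank J) (b := fun r => - lamJ C D.rank J r)
    (fun ρ => levA_neg ρ) (hra h1).1 (hnl h2).1
  exact Subgroup.mem_bot.2 (Units.ext h3)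

/-- `P_J ≤ G`. -/
lemma Extra.parabolic_le_group (J : Set ℕ) : D.parabolicSubgroup F J ≤ D.group F := by
  rw [hE.parabolic_eq hG]
  refine sup_le hG.borel_le_group ?_
  apply (Subgroup.closure_le _).2
  rintro _ ⟨j, hj, _, rfl⟩
  exact hG.monomial_le_group (hG.nG_mem_monomial hj)

/-- `N_G(U_J) = P_J`. -/
theorem Extra.normalizer_radical (hB : Braid D C) (J : Set ℕ) :
    Subgroup.normalizer (D.unipotentRadical F J : Set (GL D.Idx F)) ⊓ D.group F = D.parabolicSubgroup F J := by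
  apply le_antisymm _ (le_inf (hE.parabolic_le_normalizer hG J) (hE.parabolic_le_group hG J))
  obtain ⟨P, hPB, hPN, hPS⟩ := hE.exists_bnpair hG hB (F := F)
  set M : Subgroup (GL D.Idx F) := Subgroup.normalizer (D.unipotentRadical F J : Set (GL D.Idx F)) ⊓ D.group F with hM
  have hBP : D.borelSubgroup F ≤ D.parabolicSubgroup F J := le_sup_left
  have hBM : P.B ≤ M.subgroupOf (D.group F) := by
    rw [hPB]
    intro x hx
    rw [Subgroup.mem_subgroupOf] at hx ⊢
    exact Subgroup.mem_inf.2 ⟨hE.parabolic_le_normalizer hG J (hBP hx), x.2⟩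
  have hMe := CfsgLib.BN.eq_parabolic_of_le (M.subgroupOf (D.group F)) hBM
  intro g hg
  have hgG : g ∈ D.group F := (Subgroup.mem_inf.1 hg).2
  have h1 : (⟨g, hgG⟩ : ↥(D.group F)) ∈ M.subgroupOf (D.group F) := by
    rw [Subgroup.mem_subgroupOf]
    exact hg
  rw [hMe] at h1
  have hle : P.parabolic (P.S ∩ (M.subgroupOf (D.group F) : Set ↥(D.group F))) ≤
      (D.parabolicSubgroup F J).subgroupOf (D.group F) := by
    unfold Cfsg.BNPair.parabolic
    refine sup_le ?_ ?_
    · rw [hPB]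
      intro x hx
      rw [Subgroup.mem_subgroupOf] at hx ⊢
      exact hBP hx
    · apply (Subgroup.closure_le _).2
      rintro s ⟨hs, hsM⟩
      rw [hPS] at hs
      obtain ⟨k, hk, hs2⟩ := hs
      rw [SetLike.mem_coe, Subgroup.mem_subgroupOf] at hsM ⊢
      rw [hs2] at hsM ⊢
      by_cases hkJ : k ∈ J
      · rw [hE.parabolic_eq hG]
        exact Subgroup.mem_sup_right (Subgroup.subset_closure ⟨k, hk, hkJ, rfl⟩)
      · exfalso
        have hn := (Subgroup.mem_inf.1 hsM).1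
        have hp := hG.simple_lt hk
        have hpp := hE.simple_high hG hk
        have hout : ¬ D.InRootSub J (D.simple k) := by
          intro h2
          have h3 := h2.2 k hk hkJ
          have h4 : corOf D (D.simple k) k = 0 := h3
          rw [hG.simple_eq hk, hE.corS k hk k hk, if_pos rfl] at h4
          omega
        have hx : hG.xG (D.simple k) (1 : F) ∈ D.unipotentRadical F J :=
          Subgroup.subset_closure ⟨_, 1, (hE.posIff _ hp).2 hpp, hout, hG.xG_val _ _⟩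
        have hy := (Subgroup.mem_normalizer_iff.1 hn _).1 hx
        have h5 := hG.nnG_conj_self (F := F) hp one_ne_zero (1 : F)
        rw [← hG.nG_eq hk] at h5
        rw [h5] at hy
        have hU : D.unipotentRadical F J ≤ D.posUnipotent F := by
          rw [hE.unipotentRadical_eq hG, hG.posUnipotent_eq]
          apply Subgroup.closure_mono
          rintro _ ⟨r, h6, t, rfl⟩
          exact ⟨r, ((hE.posOut_iff hG J).2 h6).1, t, rfl⟩
        have hnp := hG.shp.neg_lt _ hp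
        have hnegp := hE.neg_of_high hG hp hpp
        have h7 : hG.xG (D.neg (D.simple k)) (-((1 : F)⁻¹ * (1 : F)⁻¹ * 1)) ∈ D.borelSubgroup F ⊓ D.negUnipotent F :=
          Subgroup.mem_inf.2 ⟨Subgroup.mem_sup_left (hU hy), hG.negUnipotent_mem ((hE.negIff _ hnp).2 hnegp) _⟩
        rw [hE.borel_inf_neg hG] at h7
        have h8 := (hE.xG_eq_one_iff hG hnp).1 (Subgroup.mem_bot.1 h7)
        simp at h8
  have h2 := hle h1
  rw [Subgroup.mem_subgroupOf] at h2
  exact h2

end

end CfsgLib.Chev
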