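/-
Centralizers of root elements `x_r(1)` with `X_r` central in `U`.
-/
import Cfsg.Agent.Lib.Chev.Parab
import Cfsg.Agent.Lib.Chev.Count
import Cfsg.Agent.Lib.Chev.GraphFrob
import Cfsg.Agent.Lib.Chev.AllT
import Cfsg.Agent.Lib.Chev.AllL
import Cfsg.Agent.Lib.Chev.AllB

set_option autoImplicit false

namespace CfsgLib.Chev

open Cfsg.Lie Cfsg.Lie.ChevalleyDatum CfsgLib.BN

section

variable {D : ChevalleyDatum} {C : Cert} (hG : Good D C) {F : Type*} [Field F] (hE : Extra D C)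

lemma Good.wordG_single (s : ℕ) (t : F) (m : ℕ) : ∀ k : ℕ,
    hG.wordG ((List.range' k m).map fun r => (r, if r = s then t else 0)) =
      if k ≤ s ∧ s < k + m then hG.xG s t else 1 := by
  induction m with
  | zero =>
    intro k
    rw [if_neg (by omega)]
    rfl
  | succ m ih =>
    intro k
    rw [List.range'_succ, List.map_cons, hG.wordG_cons, ih (k + 1)]
    by_cases h : k = s
    · subst h
      have h1 : ¬ (k + 1 ≤ k ∧ k < k + 1 + m) := by omega
      rw [if_pos rfl, if_neg h1, if_pos (by omega), mul_one]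
    · rw [if_neg h, hG.xG_zero, one_mul]
      by_cases h2 : k + 1 ≤ s ∧ s < k + 1 + m
      · rw [if_pos h2, if_pos (by omega)]
      · rw [if_neg h2, if_neg (by omega)]

include hE in
lemma Extra.xG_pos_root_inj {s r : ℕ} (hs : D.nroots / 2 ≤ s) (hr : D.nroots / 2 ≤ r) (hs' : s < D.nroots) (hr' : r < D.nroots)
    {a b : F} (hb : b ≠ 0) (h : hG.xG s a = hG.xG r b) : s = r := by
  by_contra hne
  have hk : D.nroots / 2 + (D.nroots - D.nroots / 2) = D.nroots := by omega
  have h1 := hE.Uk_unique hG (F := F) hk (le_refl _) (fun x => if x = s then a else 0) (fun x => if x = r then b else 0)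
    (by
      rw [hG.wordG_single, hG.wordG_single, if_pos (by omega), if_pos (by omega), h]) r hr hr'
  simp only [if_true] at h1
  rw [if_neg (Ne.symm hne)] at h1
  exact hb h1.symm

include hE in
lemma Extra.xG_root_inj {s r : ℕ} (hs' : s < D.nroots) (hr : D.nroots / 2 ≤ r) (hr' : r < D.nroots)
    {a b : F} (hb : b ≠ 0) (h : hG.xG s a = hG.xG r b) : s = r := by
  by_cases hs : D.nroots / 2 ≤ s
  · exact hE.xG_pos_root_inj hG hs hr hs' hr' hb h
  · exfalso
    have h1 : hG.xG r b ∈ D.borelSubgroup F ⊓ D.negUnipotent F := by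
      refine Subgroup.mem_inf.2 ⟨Subgroup.mem_sup_left (hG.posUnipotent_mem ((hE.posIff _ hr').2 hr) _), ?_⟩
      rw [← h]
      exact hG.negUnipotent_mem ((hE.negIff _ hs').2 (by omega)) _
    rw [hE.borel_inf_neg hG] at h1
    have h2 := (hE.xG_eq_one_iff hG hr').1 (Subgroup.mem_bot.1 h1)
    exact hb h2

omit hE in
lemma Good.hhG_one (r : ℕ) : hG.hhG r (1 : F) = 1 := by
  unfold Good.hhG hh nn
  have a1 : -(-(1 : F))⁻¹ = -(-(1 : F)⁻¹) := by simp
  rw [a1, ← hG.xG_neg, ← hG.xG_neg]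
  group

omit hE in
lemma Good.nnG_mem_of {K : Subgroup (GL D.Idx F)} {r : ℕ} (h1 : ∀ t : F, hG.xG r t ∈ K) (h2 : ∀ t : F, hG.xG (D.neg r) t ∈ K) (t : F) :
    hG.nnG r t ∈ K := by
  unfold Good.nnG nn
  exact K.mul_mem (K.mul_mem (h1 _) (h2 _)) (h1 _)

omit hE in
lemma Good.hhG_mem_of {K : Subgroup (GL D.Idx F)} {r : ℕ} (h1 : ∀ t : F, hG.xG r t ∈ K) (h2 : ∀ t : F, hG.xG (D.neg r) t ∈ K) (t : F) :
    hG.hhG r t ∈ K := by
  unfold Good.hhG hh
  exact K.mul_mem (hG.nnG_mem_of h1 h2 t) (hG.nnG_mem_of h1 h2 _)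

lemma list_range_single {M : Type*} [CommMonoid M] (n i0 : ℕ) (hi : i0 < n) (f : ℕ → M) (h : ∀ i < n, i ≠ i0 → f i = 1) :
    ((List.range n).map f).prod = f i0 := by
  have e : ((List.range n).map f).prod = ∏ i ∈ Finset.range n, f i := rfl
  rw [e]
  apply Finset.prod_eq_single_of_mem i0 (Finset.mem_range.2 hi)
  intro b hb hne
  exact h b (Finset.mem_range.1 hb) hne

include hE in
/-- The centralizer of `x_r(1)` when `X_r` is central in `U`, and `r` has coroot pairing `1` with exactly one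
fundamental root `p_{i₀}`. -/
theorem Extra.root_centralizer (hB : Braid D C) {r i0 : ℕ} {Ls : List ℕ} (hr : r < D.nroots) (hrp : D.nroots / 2 ≤ r) (hi0 : i0 < D.rank)
    (hU : ∀ s, s < D.nroots → D.nroots / 2 ≤ s → ∀ a b : F, Commute (hG.xG s a) (hG.xG r b))
    (hLs : ∀ s ∈ Ls, s < D.nroots ∧ ∀ a b : F, Commute (hG.xG s a) (hG.xG r b))
    (hLs2 : ∀ i < D.rank, i ≠ i0 → D.neg (D.simple i) ∈ Ls)
    (hπ : C.pi i0 r ≠ r)
    (hc : ∀ i < D.rank, cartanA D (D.simple i) r = if i = i0 then 1 else 0) :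
    D.group F ⊓ Subgroup.centralizer {hG.xG r (1 : F)} =
      D.posUnipotent F ⊔ Subgroup.closure {g : GL D.Idx F | ∃ s ∈ Ls, ∃ c : F, g = hG.xG s c} := by
  classical
  set t := hG.xG r (1 : F) with ht
  set K := D.posUnipotent F ⊔ Subgroup.closure {g : GL D.Idx F | ∃ s ∈ Ls, ∃ c : F, g = hG.xG s c} with hK
  have hK2 : K = Subgroup.closure {g : GL D.Idx F | ∃ s, (D.IsPosRoot s ∨ s ∈ Ls) ∧ ∃ c : F, g = hG.xG s c} := by
    rw [hK, hG.posUnipotent_eq, ← Subgroup.closure_union]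
    congr 1
    ext g
    constructor
    · rintro (⟨s, hs, c, rfl⟩ | ⟨s, hs, c, rfl⟩)
      · exact ⟨s, Or.inl hs, c, rfl⟩
      · exact ⟨s, Or.inr hs, c, rfl⟩
    · rintro ⟨s, hs | hs, c, rfl⟩
      · exact Or.inl ⟨s, hs, c, rfl⟩
      · exact Or.inr ⟨s, hs, c, rfl⟩
  have hPlt : ∀ s, (D.IsPosRoot s ∨ s ∈ Ls) → s < D.nroots := by
    rintro s (hs | hs)
    · exact hs.1
    · exact (hLs s hs).1
  have hKc : K ≤ Subgroup.centralizer {t} := by
    rw [hK2]
    apply (Subgroup.closure_le _).2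
    rintro _ ⟨s, hs, c, rfl⟩
    rw [SetLike.mem_coe, Subgroup.mem_centralizer_singleton_iff]
    rcases hs with hs | hs
    · exact (hU s hs.1 ((hE.posIff _ hs.1).1 hs) c 1).eq
    · exact ((hLs s hs).2 c 1).eq
  have hUK : D.posUnipotent F ≤ K := le_sup_left
  have hKG : K ≤ D.group F := by
    rw [hK2]
    apply (Subgroup.closure_le _).2
    rintro _ ⟨s, hs, c, rfl⟩
    exact hG.mem_group (hPlt s hs) c
  have hXK : ∀ s ∈ Ls, ∀ c : F, hG.xG s c ∈ K := fun s hs c =>
    Subgroup.mem_sup_right (Subgroup.subset_closure ⟨s, hs, c, rfl⟩)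
  apply le_antisymm _ (le_inf hKG hKc)
  rintro g ⟨hgG, hgc⟩
  replace hgc : g ∈ Subgroup.centralizer {t} := hgc
  rw [Subgroup.mem_centralizer_singleton_iff] at hgc
  have hHK : D.diagonalSubgroup F ≤ Subgroup.normalizer (K : Set (GL D.Idx F)) := by
    rw [hK2]
    exact hG.diagonal_le_normalizer _ hPlt
  -- the Bruhat decomposition
  have hHU := hG.diagonal_le_normalizer (F := F) (fun r => D.IsPosRoot r) (fun r hr => hr.1)
  rw [← hG.posUnipotent_eq] at hHU
  obtain ⟨b, hb, n, hn, b', hb', e⟩ := hE.bruhat hG hB hgG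
  obtain ⟨u, hu, h, hh, rfl⟩ := (mem_sup_of_le_normalizer hHU).1 hb
  obtain ⟨u1, hu1, h1, hh1, e1⟩ := (mem_sup_of_le_normalizer hHU).1 (Subgroup.inv_mem _ hb')
  have e2 : b' = h1⁻¹ * u1⁻¹ := by
    have := congrArg (·⁻¹) e1
    simpa using this
  set n2 := h * n * h1⁻¹ with hn2
  have hn2N : n2 ∈ D.monomialSubgroup F :=
    Subgroup.mul_mem _ (Subgroup.mul_mem _ (Subgroup.mem_sup_left hh) hn) (Subgroup.mem_sup_left (Subgroup.inv_mem _ hh1))
  have eg : g = u * n2 * u1⁻¹ := by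
    rw [e, e2, hn2]
    group
  have hcU : ∀ x ∈ D.posUnipotent F, x * t = t * x := fun x hx =>
    Subgroup.mem_centralizer_singleton_iff.1 (hKc (hUK hx))
  have hu1' : u1⁻¹ * t = t * u1⁻¹ := hcU _ (Subgroup.inv_mem _ hu1)
  have hcn : n2 * t * n2⁻¹ = t := by
    have e3 : u * n2 * u1⁻¹ * t = t * (u * n2 * u1⁻¹) := by
      rw [← eg]
      exact hgc
    have e4 : u * (n2 * t * u1⁻¹) = u * (t * n2 * u1⁻¹) := by
      calc u * (n2 * t * u1⁻¹) = u * n2 * (t * u1⁻¹) := by group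
        _ = u * n2 * (u1⁻¹ * t) := by rw [hu1']
        _ = u * n2 * u1⁻¹ * t := by group
        _ = t * (u * n2 * u1⁻¹) := e3
        _ = (t * u) * n2 * u1⁻¹ := by group
        _ = (u * t) * n2 * u1⁻¹ := by rw [hcU u hu]
        _ = u * (t * n2 * u1⁻¹) := by group
    have e5 := mul_right_cancel (mul_left_cancel e4)
    rw [e5]
    group
  obtain ⟨π, d, hm⟩ := hG.mono_of_mem_N hE hn2N
  have hπr : (π ⟨r, hr⟩).val = r := by
    have e3 := hm.conj ⟨r, hr⟩ (1 : F)
    rw [hcn] at e3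
    exact hE.xG_root_inj hG (π ⟨r, hr⟩).2 hrp hr one_ne_zero e3.symm
  have hπr' : π ⟨r, hr⟩ = ⟨r, hr⟩ := Fin.ext hπr
  -- the root group
  set X := Subgroup.closure {x : GL D.Idx F | ∃ s, s = r ∧ ∃ c : F, x = hG.xG s c} with hX
  have hXval : ∀ x ∈ X, ∃ c : F, x = hG.xG r c := by
    intro x hx
    induction hx using Subgroup.closure_induction with
    | mem x hx =>
      obtain ⟨s, rfl, c, rfl⟩ := hx
      exact ⟨c, rfl⟩
    | one => exact ⟨0, (hG.xG_zero r).symm⟩
    | mul x y _ _ hx hy =>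
      obtain ⟨a, rfl⟩ := hx
      obtain ⟨b, rfl⟩ := hy
      exact ⟨a + b, hG.xG_add r a b⟩
    | inv x _ hx =>
      obtain ⟨a, rfl⟩ := hx
      exact ⟨-a, hG.xG_neg r a⟩
  have hXm : ∀ c : F, hG.xG r c ∈ X := fun c => Subgroup.subset_closure ⟨r, rfl, c, rfl⟩
  have hHX : D.diagonalSubgroup F ≤ Subgroup.normalizer (X : Set (GL D.Idx F)) :=
    hG.diagonal_le_normalizer (F := F) (· = r) (by rintro s rfl; exact hr)
  have hUX : D.posUnipotent F ≤ Subgroup.normalizer (X : Set (GL D.Idx F)) := by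
    intro u' hu'
    rw [Subgroup.mem_normalizer_iff]
    have hcx : ∀ x ∈ X, u' * x = x * u' := by
      intro x hx
      obtain ⟨c, rfl⟩ := hXval x hx
      rw [hG.posUnipotent_eq] at hu'
      induction hu' using Subgroup.closure_induction with
      | mem y hy =>
        obtain ⟨s, hs, a, rfl⟩ := hy
        exact (hU s hs.1 ((hE.posIff _ hs.1).1 hs) a c).eq
      | one => simp
      | mul y z _ _ hy hz =>
        rw [mul_assoc, hz, ← mul_assoc, hy, mul_assoc]
      | inv y _ hy =>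
        rw [inv_mul_eq_iff_eq_mul, ← mul_assoc, hy, mul_assoc, mul_inv_cancel, mul_one]
    intro x
    constructor
    · intro hx
      rw [hcx x hx, mul_inv_cancel_right]
      exact hx
    · intro hx
      have e3 := hcx _ hx
      have e4 : u' * x * u'⁻¹ = x := by
        have : u' * (u' * x * u'⁻¹) = (u' * x * u'⁻¹) * u' := e3
        rw [inv_mul_cancel_right] at this
        have e5 : u' * (u' * x * u'⁻¹) = u' * x := this
        exact mul_left_cancel e5
      rwa [e4] at hx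
  have hn2X : n2 ∈ Subgroup.normalizer (X : Set (GL D.Idx F)) := by
    have h3 : Subgroup.closure {n2} ≤ Subgroup.normalizer (X : Set (GL D.Idx F)) := by
      apply le_normalizer_of_gens
      · rintro _ rfl _ ⟨s, rfl, c, rfl⟩
        rw [hm.conj ⟨s, hr⟩ c, hπr']
        exact hXm _
      · rintro _ rfl _ ⟨s, rfl, c, rfl⟩
        have h4 := hm.inv.conj ⟨s, hr⟩ c
        have h5 : π⁻¹ ⟨s, hr⟩ = ⟨s, hr⟩ := by
          rw [Equiv.Perm.inv_eq_iff_eq]
          exact hπr'.symm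
        rw [h5, inv_inv] at h4
        have h6 : n2⁻¹ * hG.xG s c * n2 = hG.xG s ((d ⟨s, hr⟩)⁻¹ * c) := h4
        rw [h6]
        exact hXm _
    exact h3 (Subgroup.subset_closure rfl)
  have hgX : g ∈ Subgroup.normalizer (X : Set (GL D.Idx F)) := by
    rw [eg]
    exact Subgroup.mul_mem _ (Subgroup.mul_mem _ (hUX hu) hn2X) (hUX (Subgroup.inv_mem _ hu1))
  -- the overgroup of `B`
  obtain ⟨P, hPB, hPN, hPS⟩ := hE.exists_bnpair hG hB (F := F)
  set M : Subgroup (GL D.Idx F) := Subgroup.normalizer (X : Set (GL D.Idx F)) ⊓ D.group F with hM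
  have hBP : ∀ x ∈ D.borelSubgroup F, x ∈ Subgroup.normalizer (X : Set (GL D.Idx F)) := by
    intro x hx
    obtain ⟨a, ha, b, hb, rfl⟩ := (mem_sup_of_le_normalizer hHU).1 hx
    exact Subgroup.mul_mem _ (hUX ha) (hHX hb)
  have hBM : P.B ≤ M.subgroupOf (D.group F) := by
    rw [hPB]
    intro x hx
    rw [Subgroup.mem_subgroupOf] at hx ⊢
    exact Subgroup.mem_inf.2 ⟨hBP _ hx, x.2⟩
  have hMe := CfsgLib.BN.eq_parabolic_of_le (M.subgroupOf (D.group F)) hBM
  have h1M : (⟨g, hgG⟩ : ↥(D.group F)) ∈ M.subgroupOf (D.group F) := by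
    rw [Subgroup.mem_subgroupOf]
    exact Subgroup.mem_inf.2 ⟨hgX, hgG⟩
  rw [hMe] at h1M
  have hle : P.parabolic (P.S ∩ (M.subgroupOf (D.group F) : Set ↥(D.group F))) ≤
      (K ⊔ D.diagonalSubgroup F).subgroupOf (D.group F) := by
    unfold Cfsg.BNPair.parabolic
    refine sup_le ?_ ?_
    · rw [hPB]
      intro x hx
      rw [Subgroup.mem_subgroupOf] at hx ⊢
      obtain ⟨a, ha, b, hb, e⟩ := (mem_sup_of_le_normalizer hHU).1 hx
      rw [e]
      exact Subgroup.mul_mem _ (Subgroup.mem_sup_left (hUK ha)) (Subgroup.mem_sup_right hb)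
    · apply (Subgroup.closure_le _).2
      rintro s ⟨hs, hsM⟩
      rw [hPS] at hs
      obtain ⟨k, hk, hs2⟩ := hs
      rw [SetLike.mem_coe, Subgroup.mem_subgroupOf] at hsM ⊢
      rw [hs2] at hsM ⊢
      by_cases hki : k = i0
      · exfalso
        subst hki
        have hn := (Subgroup.mem_inf.1 hsM).1
        have hy := (Subgroup.mem_normalizer_iff.1 hn _).1 (hXm (1 : F))
        rw [hG.nG_conj hk hr] at hy
        obtain ⟨c, hc2⟩ := hXval _ hy
        by_cases hc0 : c = 0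
        · rw [hc0, hG.xG_zero] at hc2
          have h3 := (hE.xG_eq_one_iff hG (hG.pi_lt hk hr)).1 hc2
          have h4 := hG.sg_sq (F := F) hk hr
          rw [mul_one] at h3
          rw [h3, zero_mul] at h4
          exact zero_ne_one h4
        · exact hπ (hE.xG_root_inj hG (hG.pi_lt hk hr) hrp hr hc0 hc2)
      · apply Subgroup.mem_sup_left
        rw [hG.nG_eq hk]
        apply hG.nnG_mem_of
        · intro c
          exact hUK (hG.posUnipotent_mem ((hE.posIff _ (hG.simple_lt hk)).2 (hE.simple_high hG hk)) c)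
        · exact hXK _ (hLs2 k hk hki)
  have h2 := hle h1M
  rw [Subgroup.mem_subgroupOf] at h2
  obtain ⟨k, hk, h', hh', e3⟩ := (mem_sup_of_le_normalizer hHK).1 h2
  -- the torus part
  have hhc : h' * t * h'⁻¹ = t := by
    have e3' : g = k * h' := e3
    have h4 : h' = k⁻¹ * g := by rw [e3']; group
    have h5 : k⁻¹ * t = t * k⁻¹ := Subgroup.mem_centralizer_singleton_iff.1 (hKc (Subgroup.inv_mem _ hk))
    rw [h4]
    calc k⁻¹ * g * t * (k⁻¹ * g)⁻¹ = k⁻¹ * (g * t) * g⁻¹ * k := by group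
      _ = k⁻¹ * (t * g) * g⁻¹ * k := by rw [hgc]
      _ = (k⁻¹ * t) * k := by group
      _ = t * k⁻¹ * k := by rw [h5]
      _ = t := by group
  obtain ⟨c, hc0, hcE⟩ := hE.diagonal_prod hG hh'
  have hm2 := hE.isMono_prodH hG hc0
  have h6 := hm2.conj ⟨r, hr⟩ (1 : F)
  rw [← hcE, hhc] at h6
  have h7 : (1 : F) = dProd D (List.range D.rank) c ⟨r, hr⟩ * 1 := hE.xG_inj hG hr h6
  have h8 : dProd D (List.range D.rank) c ⟨r, hr⟩ = c i0 := by
    unfold dProd
    rw [list_range_single _ i0 hi0 _ (by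
      intro i hi hne
      simp only
      rw [hc i hi, if_neg hne, zpow_zero])]
    simp only
    rw [hc i0 hi0, if_pos rfl, zpow_one]
  rw [h8, mul_one] at h7
  have hhK : h' ∈ K := by
    rw [hcE]
    unfold Good.prodH
    apply Subgroup.list_prod_mem
    intro x hx
    obtain ⟨i, hi, rfl⟩ := List.mem_map.1 hx
    have hi' := List.mem_range.1 hi
    by_cases hii : i = i0
    · subst hii
      rw [← h7]
      rw [hG.hhG_one]
      exact Subgroup.one_mem _
    · apply hG.hhG_mem_of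
      · intro c
        exact hUK (hG.posUnipotent_mem ((hE.posIff _ (hG.simple_lt hi')).2 (hE.simple_high hG hi')) c)
      · exact hXK _ (hLs2 i hi' hii)
  have e3' : g = k * h' := e3
  rw [e3']
  exact Subgroup.mul_mem _ hk hhK

/-- The check for characteristic two. -/
def rootCentChk (D : ChevalleyDatum) (C : Cert) (r i0 : ℕ) (Ls : List ℕ) : Bool :=
  Nat.blt r D.nroots && Nat.ble (D.nroots / 2) r && Nat.blt i0 D.rank &&
    ((List.range D.nroots).all fun s => !Nat.ble (D.nroots / 2) s || commOK D (2 : ℕ) s r) &&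
    (Ls.all fun s => Nat.blt s D.nroots && commOK D (2 : ℕ) s r) &&
    ((List.range D.rank).all fun i => Nat.beq i i0 || Ls.contains (D.neg (D.simple i))) &&
    !Nat.beq (C.pi i0 r) r &&
    ((List.range D.rank).all fun i => decide (cartanA D (D.simple i) r = if i = i0 then 1 else 0))

include hE in
theorem Extra.root_centralizer_two [CharP F 2] (hB : Braid D C) {r i0 : ℕ} {Ls : List ℕ} (h : rootCentChk D C r i0 Ls = true) :
    D.group F ⊓ Subgroup.centralizer {hG.xG r (1 : F)} =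
      D.posUnipotent F ⊔ Subgroup.closure {g : GL D.Idx F | ∃ s ∈ Ls, ∃ c : F, g = hG.xG s c} := by
  simp only [rootCentChk, Bool.and_eq_true, Bool.or_eq_true, Bool.not_eq_true', List.all_eq_true, List.mem_range,
    decide_eq_true_eq, List.contains_iff_mem] at h
  obtain ⟨⟨⟨⟨⟨⟨⟨h1, h2⟩, h3⟩, h4⟩, h5⟩, h6⟩, h7⟩, h8⟩ := h
  have hr : r < D.nroots := Nat.le_of_ble_eq_true h1
  have hp : ((2 : ℕ) : F) = 0 := CharP.cast_eq_zero F 2
  refine hE.root_centralizer hG hB hr (Nat.le_of_ble_eq_true h2) (Nat.le_of_ble_eq_true h3) ?_ ?_ ?_ ?_ h8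
  · intro s hs hs2 a b
    rcases h4 s hs with h | h
    · rw [Nat.ble_eq_true_of_le hs2] at h
      exact absurd h (by simp)
    · exact hG.xG_commute_of_ok hp hs hr h a b
  · intro s hs
    obtain ⟨h9, h10⟩ := h5 s hs
    have hs' : s < D.nroots := Nat.le_of_ble_eq_true h9
    exact ⟨hs', fun a b => hG.xG_commute_of_ok hp hs' hr h10 a b⟩
  · intro i hi hne
    rcases h6 i hi with h | h
    · exact absurd (Nat.eq_of_beq_eq_true h) hne
    · exact h
  · intro e
    rw [e] at h7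
    simp at h7

end

end CfsgLib.Chev
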